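import Mathlib.Data.List.Range

/-!
# Certificates for the centraliser of an octad sign change in Conway's group
-/

set_option autoImplicit false

namespace CfsgLib.Co1Cent

/-- Two permutations fixing the octad and generating the action on it. -/
def permGens : List (List Nat) := [
  [0,3,17,14,22,5,18,15,4,10,11,13,19,16,1,20,21,23,6,12,8,9,7,2],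
  [17,23,1,2,20,14,8,11,16,4,13,19,6,18,0,7,12,5,22,15,21,9,10,3]]

/-- Two sign changes, by code coordinates. -/
def signGens : List Nat := [81,66]

/-- Generators of the pointwise stabiliser of the octad. -/
def fixGens : List (List Nat) := [
  [0,1,2,3,6,5,4,22,20,12,11,10,9,19,14,18,21,17,15,13,8,16,7,23],
  [0,1,2,3,7,5,22,4,15,11,12,9,10,21,14,8,19,17,20,16,18,13,6,23],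
  [0,1,2,3,8,5,20,15,4,21,19,13,16,11,14,7,12,17,22,10,6,9,18,23],
  [0,1,2,3,9,5,12,11,21,4,22,7,6,15,14,13,20,17,19,18,16,8,10,23]]

/-- Simple roots of the sublattice on the octad. -/
def rootsB : List (List Int) := [
  [2,-2,-2,-2,-2,-2,-2,2],
  [4,4,0,0,0,0,0,0],
  [-4,4,0,0,0,0,0,0],
  [0,-4,4,0,0,0,0,0],
  [0,0,-4,4,0,0,0,0],
  [0,0,0,-4,4,0,0,0],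
  [0,0,0,0,-4,4,0,0],
  [0,0,0,0,0,-4,4,0]]

/-- The dual basis. -/
def dualB : List (List Int) := [
  [0,0,0,0,0,0,0,8],
  [2,2,2,2,2,2,2,10],
  [-2,2,2,2,2,2,2,14],
  [0,0,4,4,4,4,4,20],
  [0,0,0,4,4,4,4,16],
  [0,0,0,0,4,4,4,12],
  [0,0,0,0,0,4,4,8],
  [0,0,0,0,0,0,4,4]]

/-- Root coordinates of the standard basis modulo two. -/
def liftRows : List (List Nat) := [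
  [1,0,0,1,0,1,0,1],
  [0,0,0,0,1,1,0,1],
  [0,0,1,1,0,1,0,0],
  [0,0,0,1,0,1,1,0],
  [0,1,1,0,0,0,0,0],
  [0,0,0,0,0,1,0,1],
  [0,0,1,0,0,0,0,1],
  [0,0,0,1,0,1,1,1]]

/-- Words reaching the vectors of the second shell in increasing order. (part). -/
def reachWords0 : List (List Nat) := [
  [2],
  [4,0,4,0,1,0,4,1],
  [0,0,4,0,1,1,4,1],
  [4,0,4,1,0,0,4,1],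
  [2,1,1,4,1,0,1,4,0],
  [4,1,0,3,1,4],
  [4,0,1,2,1,4,1],
  [3,4,2,1,0,1,4],
  [2,4,2,1,0,1,4],
  [4,0,0,1,0,0,4,2],
  [0,3,4,0,1,1,4],
  [2,4,1,0,0,1,4],
  [3,4,1,0,0,1,4],
  [2,4,0,4,0,1,1,4],
  [0,2,4,0,1,1,4],
  [3,2,0,4,0,1,1,4],
  [0,4,0,1,1,4],
  [4,0,1,0,4,0,0],
  [3,4,1,0,0,4,1,2],
  [3,4,0,4,1,2,0,4,0],
  [4,2,1,0,0,4,1,0,0],
  [1,0,2,0,4,0,1,0,4],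
  [1,0,4,1,2,0,1,4,1],
  [2,0,4,0,2,1,1,4,2],
  [1,4,0,4,1,1,4,0,0],
  [0,4,1,3,0,0,4,2],
  [1,0,0,4,2,0,1,0,4],
  [0,4,0,4,1,2,0,4],
  [1,0,1,4,1,0,0,4],
  [2,4,2,1,1,0,1,4],
  [3,4,2,1,1,0,1,4],
  [4,1,0,4,0,1,4,2],
  [1,4,1,0,0,4,0,0],
  [0,4,1,0,1,0,4],
  [4,1,3,0,1,0,4,1],
  [0,2,4,1,0,1,0,4],
  [4,2,0,4,1,1,4],
  [3,0,4,0,3,1,0,4,0],
  [2,0,4,0,3,1,0,4,0],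
  [3,0,4,1,3,0,0,4],
  [2,0,4,1,3,0,0,4],
  [2,1,4,1,1,0,1,4,0],
  [0,4,0,2,1,1,4],
  [1,0,4,0,3,1,0,4],
  [0,4,0,1,0,1,0,4],
  [4,2,0,1,0,4,1],
  [1,0,4,0,1,1,1,4,0],
  [3,2,4,1,0,0,4,1],
  [4,1,0,0,4,1],
  [2,0,4,0,1,1,4,2],
  [3,0,4,0,1,1,4,2],
  [0,1,4,0,2,1,1,4,1],
  [4,0,4,0,1,1,4,2],
  [4,1,1,3,4,0,0,4,0],
  [4,1,0,0,1,4,2],
  [4,0,2,4,1,0,4,0],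
  [0,4,0,1,0,1,4,0],
  [4,2,1,0,1,4,2],
  [4,0,1,1,4,0,1],
  [3,4,1,0,1,2,4],
  [2,4,1,0,1,2,4],
  [0,4,0,1,4,1,4],
  [0,0,1,4,1,0,0,4,0],
  [0,4,1,0,0,2,4],
  [1,2,0,1,4,1,0,0,4],
  [1,0,4,2,1,4,0],
  [0,0,2,1,0,0,4,1],
  [2,4,1,1,4,0],
  [0,1,3,4,0,0,4,0],
  [0,2,0,3,4,0],
  [0,0,3,4,0],
  [0,1,0,0,1,4,0,0],
  [4,1,1,4],
  [1,1,0,0,1,4,2],
  [1,0,1,4,1],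
  [0,3,1,0,4,2],
  [2,4,0,1,2,4],
  [2,0,0,1,1,4,2],
  [3,1,1,1,4,1],
  [1,1,1,4,0,0],
  [0,0,1,1,2,4,0],
  [4,0,1,3,4],
  [0,1,0,4,2],
  [1,0,3,1,1,4,1],
  [2,1,2,4,0],
  [3,4,0,1,0,0,2,4],
  [4,0,1,0,4,1,4],
  [1,4,0,2],
  [1,0,1,1,4,1],
  [0,2,4,1,1,4,0],
  [2,1,2,4,0,1,4,0],
  [1,4,0,1,4,2],
  [0,4,1,1,4,0,0],
  [1,2,0,1,0,4,1],
  [1,0,1,0,4,0,0],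
  [1,0,1,4,1,4,0],
  [1,0,3,1,0,4,0,0],
  [0,4,1,1,4,0],
  [1,4,0,1,4,0,2],
  [1,2,0,4,0,1,4],
  [2,1,1,0,1,4],
  [1,0,1,1,4,0,1],
  [1,4,2],
  [4,0,1,0,0,4,0,0],
  [3,1,0,0,1,0,1,4],
  [2,1,2,4],
  [1,0,1,2,1,4,1],
  [0,1,0,4,0,2],
  [4,0,1,4,0,0],
  [0,0,1,3,1,4],
  [1,1,1,4,0,1],
  [3,4,1,0,2,4],
  [0,0,2,1,1,4],
  [2,4,0,1,4,1,2],
  [0,4,1,2,0,4],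
  [1,0,1,4,0,0],
  [1,1,4,0,0,4,2],
  [4,1,1,4,0,0],
  [0,1,4,0,0,4,0],
  [2,0,0,4],
  [3,0,0,4],
  [0,1,3,0,0,1,4,0,0],
  [1,2,4,1,1,4,1],
  [2,1,1,0,0,1,4,0],
  [1,4,2,0,3,1,4],
  [1,2,0,0,1,1,4,2],
  [0,0,3,1,0,4,2],
  [4,2,0,4],
  [0,2,1,2,0,0,4],
  [0,1,2,0,0,4],
  [4,1,4,0],
  [0,0,1,0,3,4,0],
  [1,0,0,1,1,4,2],
  [2,0,3,1,4],
  [0,0,3,4,1,0,4],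
  [1,4,2,0,4],
  [1,0,4,1],
  [4,0,1,1,0,0,4],
  [0,1,2,4,0],
  [2,1,0,0,4,1],
  [1,1,2,4,0,1,2,4],
  [1,1,4,0,1,4,0,0],
  [1,0,0,4,0,0],
  [0,2,0,1,0,1,4,2],
  [0,0,1,0,1,4,2],
  [0,0,1,0,3,1,4],
  [0,0,3,1,0,1,4,0],
  [1,0,4,1,4,0],
  [1,1,4,0,1,2,4],
  [1,1,2,4,0,1,4,0,0]]

/-- Words reaching the vectors of the second shell in increasing order. (part). -/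
def reachWords1 : List (List Nat) := [
  [1,0,2,4,1,4,0],
  [0,1,4,0,2],
  [3,0,0,1,1,1,4],
  [1,0,4,0,0],
  [1,2,0,4,1],
  [2,0,0,1,1,1,4],
  [2,0,1,4],
  [1,0,0,1,1,4,0,2],
  [0,0,1,0,4,0,2],
  [0,4,1,0,0],
  [0,1,0,0,4,2],
  [3,0,1,0,0,4,0],
  [2,0,4,1,2],
  [2,0,0,1,0,4],
  [1,0,0,2,1,1,4,2],
  [1,2,1,2,4,0],
  [1,0,2,4,1,1,4,0],
  [3,4,0,0,4,0],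
  [4,0,0,2,4],
  [1,0,4,1,1,4,0],
  [1,1,4,2],
  [0,1,0,4,2,1,4,0],
  [0,3,1,1,1,4,1],
  [0,1,1,1,4,0,0],
  [0,1,0,1,4,0,0],
  [1,3,0,0,1,4,2],
  [1,4,2,0,0,4],
  [2,1,4,0,0,4],
  [1,3,4,0,0,4],
  [0,1,0,4,0,4,1],
  [0,1,1,1,4,1],
  [3,0,4,1,0,4,0],
  [0,2,1,0,1,4,0,0],
  [1,1,2,4,0],
  [3,1,1,1,0,1,4],
  [4,0,4,1,4,0],
  [0,3,0,1,4,0,1],
  [2,1,1,1,0,1,4],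
  [1,2,1,4,2],
  [4,2,4,1,2,0,1,4],
  [3,0,1,0,1,0,4,1],
  [1,0,0,4,1,0,4],
  [0,0,1,4,0,0,4,0],
  [0,3,1,1,4,1],
  [0,1,4,0,4,1],
  [0,1,1,4,0,0],
  [0,2,1,1,4,0,0],
  [4,1,4,0,1,0,4],
  [1,3,0,0,1,1,1,4],
  [1,0,3,0,4,1,0,4],
  [0,2,0,1,4,0,0,4,0],
  [1,3,4,1,0,4],
  [3,4,0],
  [2,4,0],
  [0,3,0,0,4],
  [4,0,2],
  [1,1,1,2,1,4],
  [0,0,2,0,4],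
  [4],
  [4,2,4,1,0,1,4],
  [1,4,0,0,1,1,4],
  [1,2,0,0,4,1,0,4],
  [4,2,4,2,1,0,1,4,0],
  [0,1,1,4,1],
  [0,2,1,1,4,1],
  [0,3,1,1,4,0,0],
  [0,1,4,0,3,4,0],
  [4,3,4,0,1,1,4,1],
  [4,2,4,0,1,1,4,1],
  [1,0,0,1,1,1,4,0],
  [4,2,4,1,0,3,1,4],
  [1,3,1,4],
  [1,0,4,1,1,4],
  [0,0,1,4,0,0],
  [0,2,0,1,4,0,0],
  [1,0,2,4,1,1,4],
  [1,2,1,4,0],
  [0,1,0,1,4,1],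
  [0,1,1,1,4,0,1],
  [3,1,0,1,1,1,4],
  [3,2,0,1,0,1,4,1],
  [1,4,0,0,4,2],
  [1,0,2,0,1,4],
  [1,3,0,0,1,4,0],
  [1,0,0,1,4],
  [0,2,1,0,1,4,1],
  [3,0,4,1,0,4,1],
  [0,4,1,0,2,4],
  [0,1,0,4,0,3,4,0],
  [2,1,1,4],
  [1,2,0,4,1,1,4],
  [0,3,0,1,4,0,0],
  [4,0,0,4,0,2],
  [1,1,1,0,1,4,0],
  [1,1,4,0],
  [1,0,0,1,3,1,4],
  [0,0,1,0,4,2],
  [0,4,1],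
  [2,0,1,0,0,4],
  [3,0,1,0,0,4],
  [3,2,0,4,1],
  [2,0,0,1,0,4,0],
  [2,1,0,0,1,1,4,0],
  [0,1,4,2],
  [0,0,4,1,0,4],
  [1,0,4,1,0,0],
  [3,1,1,1,0,4],
  [1,0,2,1,0,1,4,1],
  [2,0,1,4,0],
  [1,0,0,4,1,0,0],
  [1,1,4,0,1,4,1],
  [4,2,0,4,1,0,1,4],
  [1,0,2,0,4,1,0,0],
  [3,0,0,1,0,1,4],
  [0,0,1,2,0,1,4,0],
  [0,2,0,1,0,1,4,0],
  [0,0,1,0,1,4,0],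
  [1,0,2,0,4,1,2],
  [1,1,2,4,0,1,4,1],
  [1,1,4,0,1,2,4,0],
  [1,0,0,4,1,2],
  [0,2,1,2,4],
  [0,3,0,4,1,0,4],
  [3,1,0,4,1,2],
  [4,1,1,1,4,1],
  [4,0,0,1,1,4,2],
  [0,1,2,4],
  [2,1,0,0,1,1,4],
  [0,0,4,1,2,0,4],
  [4,2,0,3,4,0],
  [0,1,3,0,0,4,2],
  [0,1,0,0,2,4],
  [1,1,0,4],
  [0,0,1,4,1,4],
  [1,0,1,1,0,0,4],
  [1,0,1,4,0,1],
  [0,0,1,0,0,4,1],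
  [4,1,1,4,0,1],
  [0,1,4,0,4,1,4,0],
  [0,0,4,2],
  [0,2,0,4,2],
  [2,1,0,0,1,0,0,4],
  [2,1,4,1,1,2,4],
  [2,1,1,4,0,0,4],
  [1,2,0,1,4,1],
  [0,1,0,2,4,0],
  [4,0,1,4,1],
  [0,0,1,1,4,0,2],
  [2,4,1,0,4,0],
  [3,4,1,0,4,0]]

/-- Words reaching the vectors of the second shell in increasing order. (part). -/
def reachWords2 : List (List Nat) := [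
  [2,0,0,1,1,2,4],
  [4,2,4,0,1,4,1],
  [2,0,1,0,4,0],
  [0,0,4,1,1,4,0],
  [3,1,4],
  [4,0,1,0,4,1,4,0],
  [3,1,0,0,1,0,1,4,0],
  [2,1,4],
  [1,0,2,1,1,4,1],
  [0,4,1,1,4],
  [2,1,4,0,1,4,0],
  [3,1,4,0,1,4,0],
  [3,2,0,4,1,1,4],
  [1,0,1,0,4,1],
  [1,0,1,2,0,4,1],
  [1,0,3,1,0,4,1],
  [1,0,1,3,0,4,1],
  [0,2,4,1,1,4],
  [3,1,4,0,1,4],
  [1,0,4,0,1,4],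
  [1,1,0,1,3,4],
  [0,2,1,1,0,1,4],
  [2,1,4,0],
  [3,4,0,1,2,0,0,4],
  [4,0,1,0,0,3,4,0],
  [1,3,4],
  [0,1,1,0,1,4],
  [2,0,1,0,4],
  [2,4,0,1,2,4,0],
  [0,0,1,2,1,4],
  [3,4,1,0,4,1],
  [4,1,4,1,4,0],
  [0,0,1,1,4],
  [4,0,3,1,4],
  [0,1,0,2,4],
  [1,2,0,1,4,0,0],
  [2,1,1,0,0,1,4],
  [2,4,1,1,4,2],
  [0,1,0,3,0,1,4,1],
  [0,2,0,4,0],
  [0,0,4,0],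
  [1,0,0,1,0,0,4,0],
  [1,4,1,1,4,1],
  [1,3,1,0,0,1,4],
  [1,0,4,0,4,1,2],
  [4,0,4,1,4,0,4,1],
  [4,1,4,0,1,2,4,0],
  [4,1,0,1,0,4],
  [3,2,4,1,0,1,0,4],
  [0,1,4,0,1,1,4,0],
  [1,2,0,4,1,0,1,4],
  [0,2,1,4,0,1,1,4,0],
  [1,3,4,3,1,0,1,4,0],
  [1,4,0,4,1,1,4],
  [2,0,4,0,3,1,1,4,1],
  [1,0,4,3,1,0,1,4,0],
  [0,0,4,2,0,1,0,4,1],
  [4,1,3,0,0,4,2],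
  [3,4,0,4,1,2,0,4],
  [3,4,1,0,0,2,4],
  [4,0,1,4,1,4],
  [0,4,0,1,1,4,1],
  [3,2,0,4,0,1,1,4,1],
  [0,2,4,0,1,1,4,1],
  [2,0,4,0,1,1,1,4,1],
  [0,4,3,1,0,1,4],
  [4,0,1,2,1,1,4,2],
  [3,4,0,1,0,1,4,0],
  [4,1,1,0,0,1,4,0],
  [3,4,0,1,1,4],
  [2,4,0,1,1,4],
  [4,0,2,1,1,4],
  [4,1,0,4,0,3,4,0],
  [2,0,4,0,1,4,1,4,0],
  [1,3,4,1,0,1,4,2],
  [1,0,4,0,1,0,4,1],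
  [0,1,4,1,0,0,4,0],
  [4,1,0,4,1,4],
  [3,4,0,1,0,2,4],
  [3,4,1,3,0,0,4,0],
  [4,0,3,1,0,4],
  [1,2,4,0,1,0,1,4],
  [1,0,4,2,0,1,0,4,0],
  [0,4,0,2,1,1,4,0],
  [0,1,3,4,1,0,0,1,4],
  [2,0,4,2,1,0,0,4,0],
  [1,4,0,1,2,1,4,2],
  [2,0,4,2,0,1,0,4],
  [1,3,4,1,0,0,4],
  [3,4,1,0,1,0,4,0],
  [2,4,1,0,1,0,4,0],
  [3,1,4,1,0,0,4],
  [1,0,4,1,0,0,4],
  [4,0,1,0,1,4],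
  [1,4,1,0,1,0,4],
  [3,4,2,0,1,0,1,4],
  [0,0,4,2,1,0,0,4],
  [0,1,4,1,0,1,0,4],
  [0,1,4,0,2,1,1,4],
  [0,3,4,0,1,0,1,4],
  [2,0,4,0,1,1,2,4],
  [1,4,0,1,0,4,0,0],
  [4,0,1,0,1,0,4,0],
  [4,0,1,1,4,0],
  [3,2,4,0,1,1,4,0],
  [4,1,0,4,0,1,0,4],
  [1,4,0,1,1,4,0],
  [0,4,1,0,4,1,4],
  [2,0,4,0,4,1,1,4],
  [0,0,2,4,1,0,1,4],
  [3,0,0,4,0,1,1,4,0],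
  [1,4,0,1,1,4,1],
  [4,0,0,4,0,1,1,4],
  [1,4,0,1,1,2,4,0],
  [2,1,3,4,1,0,1,4,0],
  [2,1,3,4,0,1,0,4,2],
  [0,4,1,0,0,4,1,2],
  [4,0,1,1,4,1],
  [4,3,1,0,1,4],
  [3,4,1,0,1,3,4],
  [2,4,1,0,1,4],
  [3,4,1,0,1,4],
  [2,4,1,0,1,3,4],
  [4,2,1,0,1,4,0],
  [4,3,0,1,1,4,1],
  [4,3,1,0,1,4,0],
  [1,4,1,0,1,4,0],
  [2,4,1,0,1,4,0],
  [3,4,1,0,1,4,0],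
  [2,0,4,1,1,0,1,4,0],
  [0,4,1,0,1,1,0,4],
  [0,0,4,1,1,0,1,4,1],
  [0,4,0,1,3,0,4,1],
  [1,0,4,1,0,1,0,4],
  [0,1,4,0,3,1,1,4,1],
  [3,0,4,0,1,1,4,0,0],
  [2,0,4,0,1,1,4,0,0],
  [4,1,4,0,0,4,2],
  [1,2,4,0,1,1,1,4],
  [4,0,1,1,1,4,0,1],
  [4,0,1,0,1,4,1],
  [4,0,4,1,0,4,1],
  [0,4,0,1,0,3,1,4],
  [0,0,4,2,1,0,0,4,0],
  [4,1,0,0,1,4,0],
  [2,0,4,1,2,0,1,4],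
  [4,3,1,0,0,1,4],
  [4,3,0,1,0,1,4,1],
  [4,1,0,1,1,1,4],
  [0,0,3,4,0,1,1,4]]

/-- Words reaching the vectors of the second shell in increasing order. (part). -/
def reachWords3 : List (List Nat) := [
  [2,0,4,0,1,1,4,0,1],
  [0,1,4,0,1,2,1,4,2],
  [0,4,0,4,1,0,4,1],
  [0,1,4,0,1,2,1,4,0],
  [4,0,4,1,1,0,0,4],
  [2,0,4,1,1,0,0,4],
  [0,4,1,0,2,0,1,4],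
  [4,2,0,4,0,1,1,4],
  [3,0,4,1,1,0,0,4],
  [0,4,0,4,1,0,2,4],
  [2,1,1,4,2,1,0,1,4],
  [4,0,1,0,1,2,4,0],
  [4,0,4,1,0,4],
  [4,1,4,0,0,4,0],
  [1,4,1,3,4,0,0,4],
  [3,2,0,4,1,0,0,4,2],
  [0,4,1,0,0,4,2],
  [1,0,3,4,1,0,1,4,0],
  [1,4,0,1,1,4,2],
  [2,4,1,0,1,4,1],
  [3,4,1,0,1,4,1],
  [4,0,1,3,1,4],
  [4,2,1,0,1,4,1],
  [2,0,4,2,1,0,0,4],
  [1,4,0,2,1,1,4],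
  [3,0,1,4,0,1,1,4],
  [2,0,1,4,0,1,1,4],
  [4,1,2,1,0,1,4,1],
  [2,4,1,0,1,4,1,4],
  [1,4,0,4,1,2,0,4],
  [4,1,0,0,1,1,4,0],
  [0,3,4,1,0,1,3,4],
  [3,0,0,4,0,3,1,0,4],
  [0,4,0,3,1,1,4,0,0],
  [2,0,4,2,1,4,0,0,4],
  [0,4,1,0,3,1,4],
  [4,0,3,1,0,4,0,0],
  [3,4,0,1,3,0,4,1],
  [0,2,4,1,0,1,4],
  [3,4,0,1,0,4,1,2],
  [4,1,0,1,1,0,4],
  [4,3,0,1,0,4,0,0],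
  [0,4,1,0,1,4],
  [4,0,1,2,0,4,1],
  [0,4,1,0,1,4,0,0],
  [4,1,0,4,1,4,0,2],
  [1,4,1,4,0,0,4,0],
  [0,4,0,1,2,1,4,1],
  [2,1,1,4,1,0,0,4,1],
  [1,0,4,2,0,1,0,4,1],
  [0,3,4,1,0,1,4],
  [1,0,4,2,0,1,0,4],
  [0,3,4,1,0,1,4,0,0],
  [2,1,1,4,1,0,0,4,0],
  [0,4,0,2,1,1,4,1],
  [2,1,1,4,1,0,0,4],
  [3,1,1,4,1,0,0,4,0],
  [1,3,4,0,4,1,0,4],
  [1,0,4,0,3,1,0,4,1],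
  [4,1,0,0,4,0,2],
  [3,4,0,1,0,4,2],
  [3,4,1,0,2,0,4],
  [4,2,0,1,0,4,2],
  [4,1,1,2,0,1,4,1],
  [4,3,1,4,0,3,1,4],
  [4,1,2,0,1,0,4],
  [4,1,0,0,1,1,4],
  [2,0,4,2,0,1,0,4,1],
  [1,3,4,1,0,0,4,0],
  [1,4,0,3,1,1,4,1],
  [1,0,4,1,4,0,0,4,0],
  [1,4,0,1,2,1,4,0],
  [4,0,0,4,0,1,0,4],
  [2,0,0,4,0,1,0,4],
  [1,2,0,4,0,1,0,4],
  [1,3,4,1,2,0,0,4],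
  [3,0,0,4,0,1,0,4],
  [0,4,0,4,0,1,1,4],
  [0,4,2,1,1,0,1,4],
  [1,4,2,0,1,0,4],
  [2,1,4,1,0,0,4,0],
  [2,1,1,4,0,1,0,4],
  [4,0,2,4,1,1,4,0],
  [4,1,2,4,0,1,4],
  [4,1,2,1,0,1,4,0],
  [0,4,1,0,1,0,4,0],
  [3,4,1,1,0,1,4],
  [2,4,1,1,0,1,4],
  [1,4,3,0,1,0,4,1],
  [4,1,1,2,0,1,4],
  [4,1,2,4,0,1,4,0],
  [1,1,4,1,1,0,1,4,0],
  [1,4,0,2,1,1,4,0,0],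
  [2,0,4,0,3,1,0,4,1],
  [1,3,4,1,0,0,4,1],
  [4,1,0,0,4,2],
  [3,4,0,1,0,4,0,2],
  [0,4,1,0,1,4,1],
  [4,0,3,1,4,1,4],
  [0,3,4,1,0,1,4,1],
  [1,0,4,3,0,1,0,4,1],
  [0,4,0,1,2,1,4],
  [0,0,4,0,3,4,1,0,4],
  [2,4,0,4,0,1,0,4,2],
  [1,0,4,1,0,1,4,1],
  [0,0,4,1,1,0,1,4,0],
  [0,4,0,1,0,4,2],
  [2,4,1,0,1,4,0,0],
  [3,4,1,0,1,4,0,0],
  [4,0,1,1,2,4,0],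
  [4,2,1,0,1,4,0,0],
  [4,0,1,0,3,1,4],
  [4,0,4,1,0,4,0,0],
  [4,1,0,0,1,4,0,0],
  [3,4,0,1,1,2,1,4],
  [0,4,0,4,1,0,4],
  [3,2,0,4,0,4,1,0,4],
  [0,2,4,0,4,1,0,4],
  [4,2,0,4,0,1,1,4,1],
  [0,4,0,1,1,4,0],
  [3,2,0,4,0,1,1,4,0],
  [0,2,4,0,1,1,4,0],
  [2,0,4,0,1,1,1,4],
  [4,0,1,2,0,1,4],
  [4,3,0,1,1,1,4,0],
  [0,3,4,0,1,1,4,0],
  [4,1,1,4,0,0,4],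
  [3,4,1,1,0,0,4],
  [2,4,1,1,0,0,4],
  [4,0,1,2,1,4,0],
  [2,1,4,0,1,0,4,0],
  [2,0,4,0,1,0,4],
  [3,0,4,0,1,0,4],
  [1,1,4,0,1,1,4],
  [4,0,4,0,1,0,4],
  [4,0,3,4,1,0,1,4,0],
  [1,0,2,4,0,1,1,4,1],
  [1,0,4,3,1,0,1,4],
  [0,0,4,2,0,1,0,4,0],
  [4,2,1,0,0,4],
  [3,4,2,0,1,0,4,0],
  [3,4,1,0,0,4],
  [4,0,1,0,4,0],
  [0,1,4,0,1,1,4,1],
  [0,4,3,0,1,0,4,0,0],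
  [0,2,1,4,0,1,1,4,1],
  [1,3,4,2,1,0,1,4],
  [4,1,0,1,0,4,1],
  [3,4,3,1,4,0,1,4],
  [4,2,1,4,0,1,4,0]]

/-- Words reaching the vectors of the second shell in increasing order. (part). -/
def reachWords4 : List (List Nat) := [
  [4,0,4,1,1,4],
  [4,1,4,0,1,4],
  [4,1,1,0,1,4,0],
  [0,3,4,0,3,1,0,4],
  [4,3,1,0,1,0,4,1],
  [2,4,1,2,1,0,1,4],
  [1,2,4,1,0,1,4,0],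
  [4,3,0,4,1,1,4],
  [4,1,4,0,1,4,0],
  [2,1,4,0,2,1,1,4,0],
  [1,2,4,0,1,1,4,0],
  [0,4,0,3,1,0,4],
  [0,1,4,0,1,1,2,4,0],
  [0,4,0,1,2,0,4,1],
  [0,0,4,0,1,0,4,2],
  [0,4,1,3,0,0,4,0],
  [2,0,4,1,2,1,0,1,4],
  [4,0,4,1,3,0,0,4],
  [0,2,0,4,0,1,0,4,2],
  [1,0,4,1,1,0,1,4,0],
  [4,0,4,0,3,1,0,4,0],
  [4,0,1,4,1,1,4],
  [4,1,4,0,1,2,4],
  [4,1,0,1,0,3,4,0],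
  [2,1,4,2,1,0,1,4],
  [4,2,1,0,0,4,0],
  [3,4,2,0,1,0,4],
  [3,4,1,0,0,4,0],
  [4,0,1,0,4],
  [0,2,4,1,0,0,1,4],
  [4,0,0,4,2,0,1,0,4],
  [2,0,4,0,1,2,1,4,0],
  [0,4,1,0,0,1,4,0],
  [1,0,2,4,0,1,1,4,0],
  [1,4,3,0,4,1,1,4],
  [0,0,4,2,0,1,0,4],
  [1,4,0,1,2,0,1,4],
  [2,0,3,4,1,0,1,4,2],
  [1,3,4,1,4,0,0,4],
  [0,4,1,0,0,1,4],
  [3,2,0,4,1,0,0,1,4],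
  [3,4,1,0,4,1,4,0],
  [4,0,1,4,1,4,0],
  [3,4,0,3,1,0,4,1],
  [4,2,1,0,0,4,1],
  [2,0,4,1,0,1,4,2],
  [4,2,1,0,4,1,4,0],
  [4,0,1,0,4,1,0,0],
  [3,2,4,0,1,0,4,1],
  [4,0,1,0,4,1],
  [3,4,1,0,0,4,0,0],
  [4,1,0,2,0,4,1],
  [3,4,3,0,1,0,4,1],
  [0,4,3,1,0,0,1,4],
  [1,0,2,4,0,1,1,4,2],
  [1,3,4,1,0,0,1,4,2],
  [0,0,4,0,3,1,0,4,2],
  [4,0,4,1,3,1,4],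
  [4,1,4,0,1,4,1],
  [4,1,0,1,0,2,4,0],
  [0,2,0,4,1,0,1,4,1],
  [0,1,4,0,1,1,4,2],
  [4,0,4,2,0,1,0,4],
  [0,2,1,4,0,1,1,4,2],
  [0,4,1,0,2,0,4,0],
  [1,3,4,0,1,1,4],
  [2,4,0,1,1,2,4],
  [4,0,1,2,1,4,2],
  [4,1,0,1,4,1,2],
  [2,1,4,0,1,1,4],
  [4,0,4,1,0,0,4],
  [2,0,4,1,0,0,4],
  [3,0,4,1,0,0,4],
  [4,0,3,1,0,1,4],
  [4,3,0,1,1,1,4],
  [2,4,0,1,1,1,4],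
  [4,1,1,0,0,1,4],
  [0,3,4,2,1,0,1,4],
  [2,1,4,1,0,0,1,1,4],
  [0,0,4,0,2,1,1,4,0],
  [0,4,3,0,1,1,4,1],
  [0,0,4,0,2,1,1,4,1],
  [0,4,0,1,1,2,4,0],
  [2,0,4,0,1,1,1,4,0],
  [1,3,4,1,0,1,0,4,0],
  [2,1,1,0,4,1,0,0,4],
  [1,4,1,1,2,0,1,4],
  [0,1,4,1,0,1,3,4],
  [0,0,4,0,2,1,1,4,2],
  [2,4,0,1,1,1,4,1],
  [4,1,1,4,0,0,4,0],
  [4,0,3,1,1,1,4,1],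
  [0,4,3,1,0,1,4,0],
  [4,3,0,1,1,1,4,1],
  [3,4,2,1,4,0,0,4],
  [3,4,0,4,1,0,4,0],
  [4,1,0,0,2,1,4,0],
  [0,1,1,4,1,0,0,4],
  [2,4,0,4,1,0,4,0],
  [3,4,1,4,0,0,4],
  [2,4,1,4,0,0,4],
  [0,1,4,1,0,1,4,0],
  [0,3,1,1,4,1,0,0,4,0],
  [1,4,2,1,1,0,1,4],
  [1,3,0,4,0,1,1,4],
  [2,1,4,0,1,1,4,0,1],
  [1,3,4,1,0,1,2,4],
  [0,0,4,1,1,0,0,4],
  [3,0,4,1,0,0,4,0,0],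
  [4,0,3,1,1,4,1],
  [4,1,0,1,4,0,2],
  [2,4,0,1,1,4,0,0],
  [2,4,1,2,0,1,4],
  [3,4,1,2,0,1,4],
  [3,4,0,1,1,4,0,0],
  [4,1,0,1,2,4,0],
  [4,0,1,2,1,4,0,0],
  [4,1,0,1,4,2],
  [4,0,2,1,1,4,0,1],
  [2,4,1,2,0,1,4,0],
  [3,4,1,2,0,1,4,0],
  [0,0,4,0,1,1,4],
  [1,3,4,0,1,0,4],
  [0,1,0,4,1,0,0,4],
  [2,0,4,0,1,0,4,1],
  [3,0,4,0,1,0,4,1],
  [2,0,4,0,1,0,3,4,0],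
  [0,1,4,1,0,0,4],
  [1,0,4,0,1,0,4],
  [0,4,1,1,0,1,4],
  [2,0,4,1,2,0,0,4],
  [0,2,0,4,0,1,1,4],
  [4,0,4,1,0,0,3,4,0],
  [3,4,0,1,1,4,0,2],
  [2,4,0,1,1,4,0,2],
  [4,0,1,2,1,2,4,0],
  [4,1,0,4,0,4,1],
  [0,4,0,1,3,1,4],
  [0,0,4,0,1,2,1,4],
  [1,1,4,1,2,0,1,4],
  [1,0,4,1,3,0,0,1,4],
  [0,4,2,1,0,1,4,1],
  [4,0,3,4,1,0,4],
  [4,1,3,4,0,0,4,0],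
  [2,4,0,1,0,1,4,2],
  [4,1,1,0,1,4,1],
  [4,1,4,0,1,4,0,0],
  [1,2,4,1,0,1,4,1],
  [4,1,0,0,2,1,1,4],
  [0,0,4,0,1,3,0,4,1]]

/-- Words reaching the vectors of the second shell in increasing order. (part). -/
def reachWords5 : List (List Nat) := [
  [0,4,2,0,1,0,4,2],
  [2,1,4,0,1,2,1,4],
  [0,4,1,0,2,0,4],
  [0,4,1,4,0,0,4,0],
  [1,1,1,4,1,2,0,1,4],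
  [0,4,3,0,4,1,0,4],
  [0,0,4,0,3,1,0,4,1],
  [4,2,1,2,0,0,4],
  [3,4,0,3,1,0,4,2],
  [3,4,1,2,0,0,4],
  [4,0,1,0,3,4,0],
  [3,2,1,0,4,1,0,1,4],
  [1,0,4,1,0,1,4],
  [1,0,3,4,1,0,1,4],
  [1,4,3,0,1,1,4,1],
  [2,4,1,0,1,4,0,1],
  [3,4,1,0,1,4,0,1],
  [4,0,1,1,4,2],
  [4,2,1,0,1,4,0,1],
  [4,0,1,0,1,4,0,2],
  [4,0,4,1,4,1,4],
  [4,1,4,0,0,2,4],
  [4,1,1,3,4,0,0,4],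
  [4,0,4,0,1,1,4,0],
  [0,0,4,2,1,1,0,1,4],
  [0,4,1,3,0,0,1,4],
  [4,2,0,4,0,1,1,4,0],
  [4,1,0,0,3,4,0],
  [1,4,1,0,0,1,4,0],
  [0,4,1,0,1,4,0],
  [4,0,3,1,0,4,0],
  [0,3,4,1,0,1,4,0],
  [2,0,2,4,1,4,0,0,4],
  [3,0,4,1,4,0,0,4],
  [2,0,4,1,4,0,0,4],
  [1,0,4,1,0,0,1,4,0],
  [0,4,1,1,2,0,1,4],
  [2,0,4,3,0,1,0,4,1],
  [3,0,4,3,0,1,0,4,1],
  [1,4,1,2,0,1,4],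
  [2,4,1,0,1,0,4,2],
  [4,1,0,3,1,0,4,2],
  [3,4,1,4,0,1,3,4],
  [0,0,2],
  [0,3,0,0,4,1],
  [0,1,2,1,2,4,0],
  [0,1,0,3,1,0,4,2],
  [4,3,4,0,1,1,4,0,2],
  [0,0,1,4,2,0,0,4],
  [0,1,0,1,0,4,0,2],
  [0,1,1,4,0,2],
  [4,1],
  [1,3,4,0,0,4,0],
  [0,3,4,1,0,4],
  [2,0,1,0,1,4,2],
  [0,1,0,1,4,2],
  [0,1,1,3,1,4],
  [1,4,0,4,1,4,0],
  [3,0,0,1,4,2],
  [2,1,1,1,0,1,4,1],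
  [1,1,1,0,1,4,1],
  [0,0,1,4,2],
  [3,1,1,4,1],
  [1,4,0,4,1],
  [1,1,4,1],
  [2,1,1,4,1],
  [0,0,3,1,4],
  [4,0,1,0,0,1,4],
  [1,1,2,1,0,1,4,1],
  [0,0,2,1,4,0],
  [1,4,0,0,4,0],
  [0,4,1,0,4],
  [0,1,0,1,2,4,0],
  [0,1,2,0,1,4,0],
  [3,0,4,1,0,4],
  [1,0,3,0,1,4,1],
  [4,1,0,0],
  [0,1,3,1,4],
  [0,1,0,1,0,2,4,0],
  [4,2,4,1,0,1,4,1],
  [0,0,1,0,2,0,1,4],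
  [0,1,2,0,1,0,4],
  [0,1,2,1,4],
  [1,1,2,1,1,4,1],
  [4,3,4,1,2,0,0,4],
  [1,2,1,2,4,0,1,4,0],
  [2,1,2,0,0,4],
  [1,2,0,0,4],
  [1,1,4,0,1,4,0,2],
  [0,0,1,0,1,4,0,1],
  [3,1,0,4,2],
  [0,0,3,1,1,1,4,1],
  [1,0,1,0,3,1,4],
  [1,0,4,2],
  [0,4,2,1,4,0],
  [0,1,4,0,1],
  [0,4,0,4,1],
  [3,0,1,4,0,1],
  [1,0,2,4,0],
  [0,0,2,4,1,0,4,0],
  [0,0,3,4,1,0,4,0],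
  [1,2,0,4,0],
  [0,0,1,0,1,4,0,0],
  [4,3,4,0,1,0,4,2],
  [1,0,0,4,0,2],
  [1,0,2,0,4],
  [1,1,2,4,0,1,4],
  [0,2,0,1,0,1,4,0,0],
  [0,2,1,0,0,4,1],
  [2,0,3,4,0],
  [0,3,4,0],
  [0,1,0,0,4,1,0,0],
  [2,0,0,1,0,4,1],
  [0,0,1,0,4,1],
  [0,0,1,0,4,0,0],
  [3,0,0,1,0,4,1],
  [0,1,0,0,4,1],
  [0,4,2],
  [2,0,4,2],
  [3,0,1,0,0,4,1],
  [2,1,0,0,1,1,4,1],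
  [1,0,0,1,1,4,1],
  [1,0,0,1,1,4,0,1],
  [3,1,0,0,1,1,4,1],
  [1,0,0,1,1,4,0,0],
  [2,1,0,0,1,1,4,0,0],
  [3,1,0,0,1,1,4,0,0],
  [1,0,3,0,1,1,4,1],
  [0,1,0,0,4,0,0],
  [0,2,4,0],
  [4,2,0,4,0],
  [3,0,1,0,0,4,0,0],
  [0,0,1,0,4,1,0,0],
  [0,3,0,1,0,4,1],
  [0,3,0,1,0,4,0,0],
  [3,0,3,0,1,0,4,1],
  [0,1,0,2,0,4,1],
  [2,0,4,0],
  [0,4,0],
  [3,0,1,0,2,0,4,1],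
  [0,0,1,0,1,4,1],
  [1,2,1,4,0,1,4,0],
  [1,0,0,4,2],
  [1,0,2,0,4,0],
  [1,3,1,4,0,1,4],
  [0,2,0,1,0,1,4,1],
  [1,0,4,0,2],
  [4,0,0,1,3,1,4],
  [1,0,3,1,0,1,4],
  [4,1,2,0,4]]

/-- Words reaching the vectors of the second shell in increasing order. (part). -/
def reachWords6 : List (List Nat) := [
  [0,1,4,0,0],
  [2,0,1,4,0,0],
  [3,0,1,4,0,0],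
  [0,1,4,1,2],
  [1,2,0,4],
  [2,1,0,1,0,1,4],
  [1,0,1,0,1,4],
  [1,0,2,4],
  [4,3,4,1,0,0,2,4],
  [3,1,1,4,0,1,4],
  [1,3,0,0,4,2],
  [1,0,0,2,4],
  [1,1,4,0,1,4],
  [0,3,0,1,0,1,4,1],
  [4,0,1],
  [0,1,1,2,4,0],
  [0,1,0,1,0,3,4,0],
  [0,0,2,1,4,0,0,4],
  [0,0,1,3,4,0,0,4],
  [1,2,1,0,1,0,1,4],
  [0,2,1,1,2,4,0],
  [0,3,0,4,1,4,0],
  [1,0,0,1,4,0,0],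
  [0,4,1,0,4,0,0],
  [0,1,0,3,1,4],
  [0,3,1,0,1,4,0],
  [0,1,1,2,1,4],
  [1,0,3,0,1,4,0,0],
  [4,2,0,0,4],
  [1,0,4,1,3,1,4],
  [1,1,1,2,0,1,4,1],
  [3,4,2,0,0,4],
  [1,1,4,0,0],
  [2,1,1,4,0,0],
  [3,1,1,4,0,0],
  [1,4,0,3,4,0],
  [3,4,0,0,4],
  [1,0,3,4,1,3,1,4],
  [1,0,4,1,4,0,4,1],
  [4,0,0,4],
  [1,3,0,0,1,4,0,0],
  [0,1,2,1,1,4,2],
  [2,0,1,0,1,4,0],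
  [0,1,0,1,4,0],
  [0,1,1,1,3,4],
  [1,4,0,0,3,4,0],
  [1,3,4,1,0,4,1],
  [0,2,1,1,4],
  [3,0,1,0,1,0,4],
  [4,3,4,0,1,1,4],
  [0,0,1,0,0,1,4],
  [0,1,0,1,0,4],
  [0,1,1,4],
  [4,0,0,2],
  [0,1,2],
  [1,0,3,1,0,4,2],
  [1,2,4,0,1,2,4],
  [0,3,1,4,1,1,4],
  [1,1,0,1,4,0,0],
  [1,4,0,1,3,4],
  [1,0,1,0,4,2],
  [3,4,0,1,0,3,0,4,1],
  [4,2,1,4,0],
  [1,4,0,1],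
  [4,0,1,0,3,0,4,1],
  [2,1,0,1,1,2,4,0],
  [1,0,1,1,2,4,0],
  [0,1,1,0,1,4,1],
  [3,1,0,1,1,2,4,0],
  [4,0,1,0,0,4,1,2],
  [1,4,1],
  [2,1,4,1],
  [0,1,0,0,2,1,1,4],
  [1,0,1,0,3,4,0],
  [1,4,0,1,2,4],
  [0,1,4,1,1,4],
  [2,0,1,4,1,1,4],
  [3,1,4,0,1,2,4],
  [1,2,0,1,0,4,2],
  [3,4,1,0,4],
  [0,0,3,1,1,4,1],
  [0,0,1,4,0,4,1],
  [4,1,0,4],
  [3,0,4,0,1,4,2],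
  [4,0,4,0,3,4,0],
  [0,4,0,1,4,2],
  [0,3,4,0,1,4,0],
  [4,1,4,1,4],
  [0,0,1,1,4,0,1],
  [4,2,0,0,1,1,4],
  [1,1,2,1,4,2],
  [2,0,1,0,4,1],
  [0,1,0,4,1],
  [0,1,0,4,1,0,0],
  [3,0,1,0,4,1],
  [0,1,4,1,4,0],
  [0,3,1,0,4,1],
  [3,0,1,4,1,4,0],
  [0,1,1,1,0,4],
  [4,1,0,4,0,0],
  [0,0,1,1,4,0,0],
  [2,0,0,1,1,4,0,0],
  [1,2,1,1,4,2],
  [4,0,1,4,0,2],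
  [3,4,0,1,4],
  [2,4,0,1,4],
  [4,0,1,4],
  [3,1,1,1,2,4],
  [0,0,1,2,1,4,0,0],
  [0,0,1,1,4,1,2],
  [1,1,1,2,4],
  [1,0,1,0,2,4,0],
  [1,4,0,1,4,1],
  [0,4,1,3,1,4],
  [2,0,4,1,3,1,4],
  [3,1,4,0,1,4,1],
  [1,2,0,1,0,4,0],
  [4,0,1,0,0,4,2],
  [1,4,0,0],
  [2,1,4,0,0],
  [3,4,0,1,0,0,4,2],
  [1,0,1,1,4,2],
  [2,1,0,1,1,4,2],
  [3,1,0,1,1,4,2],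
  [4,0,0,1,0,4],
  [3,4,0,1,0,0,4,0],
  [4,2,1,4,0,0],
  [4,0,4,1,2],
  [4,0,1,0,0,4,0],
  [1,0,3,1,0,4,0],
  [1,2,4,0,1,4,1],
  [0,3,4,1,3,1,4],
  [0,4,1,1,3,4],
  [0,1,4,0,3,1,4],
  [1,0,1,0,4,0],
  [1,0,0,2],
  [3,0,0,4,1],
  [0,1,3,0,0,1,4,2],
  [0,1,4,2,0,0,4],
  [0,0,4,1],
  [3,1,4,1,1,4],
  [1,4,1,1,4,0,0],
  [1,4,1,1,4],
  [2,1,4,1,1,4],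
  [0,0,4,0,0],
  [0,1,0,0,1,4,2],
  [2,0,1,0,0,1,4,2],
  [0,2,0,4,1],
  [1,1,3,4,0,0,4,0],
  [0,0,1,2,0,0,4]]

/-- Words reaching the vectors of the second shell in increasing order. (part). -/
def reachWords7 : List (List Nat) := [
  [0,2,0,1,0,0,4],
  [0,3,0,1,0,0,4],
  [1,1,4,0,0,4,0],
  [3,0,0,1,0,0,4],
  [2,0,0,1,0,0,4],
  [0,0,1,0,0,4],
  [0,4,1,4,0],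
  [0,2,1,4,0,0,4],
  [0,1,3,4,0,0,4],
  [3,0,4,1,4,0],
  [1,4,1,1,4,0],
  [3,4,1,1,2,4],
  [1,2,4,1,1,4],
  [4,1,1,2,4],
  [0,2,4,1,4,0],
  [2,0,1,4,0,0,4],
  [0,1,4,0,0,4],
  [0,3,0,4,1],
  [1,2],
  [2,1,0,1,4,2],
  [1,0,1,4,2],
  [1,0,1,2,4,0],
  [1,2,0,1,4,0],
  [1,0,1,4,0,2],
  [3,1,0,1,2,4],
  [1,2,0,1,4],
  [1,0,1,2,4],
  [0,2],
  [3,1,0],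
  [4,3,4,0],
  [1,0,1],
  [1,0],
  [0],
  [1,0,3,1,4],
  [3,1,0,1,4,0],
  [2,1,0,1,4,0],
  [1,0,1,4,0],
  [3,1,0,1,4],
  [1,0,1,3,4],
  [1,0,1,4],
  [2,1,0,1,4],
  [1],
  [0,0,4,1,0,0],
  [0,1,4,0,0,4,2],
  [0,1,0,2,0,1,4],
  [3,0,0,4,1,0,0],
  [4,1,3,1,4],
  [2,4,1,3,1,4],
  [3,4,1,3,1,4],
  [4,1,1,3,4],
  [0,2,0,4,1,0,0],
  [0,1,0,2,0,1,4,0],
  [0,3,1,0,0,1,4],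
  [0,4,1,4,0,2],
  [0,0,1,0,0,4,2],
  [0,3,0,1,0,0,4,0],
  [3,0,0,1,0,0,4,2],
  [0,0,1,0,0,2,4],
  [2,0,0,1,0,0,4,0],
  [0,0,1,0,0,4,0],
  [0,0,1,0,4,1,4],
  [3,0,0,1,0,0,4,0],
  [0,2,0,4,1,2],
  [2,0,1,0,0,1,4],
  [0,1,0,0,1,4],
  [0,1,1,0,4],
  [2,4,1,1,4,1],
  [4,1,1,4,1],
  [4,1,4,0,4,1],
  [3,4,1,1,4,1],
  [0,0,4,1,2],
  [0,1,0,0,1,4,0],
  [0,1,3,0,0,1,4],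
  [3,0,0,4,1,2],
  [1,0,0],
  [1,0,1,0,4,0,2],
  [1,4,0,1,4,0,0],
  [1,1,0,1,4,1],
  [2,1,1,0,1,4,1],
  [3,1,4,0,1,4,0,0],
  [1,0,4,1,2,0,4],
  [4,2,0,1,0,0,4],
  [4,0,4,1],
  [2,4,0,4,1],
  [3,4,2,0,1,0,0,4],
  [1,0,1,3,1,4],
  [3,1,0,1,1,4],
  [2,1,0,1,1,4],
  [1,0,1,1,4],
  [3,4,0,1,0,0,4],
  [2,4,3,0,4,1],
  [4,3,0,4,1],
  [4,0,1,0,0,4],
  [1,0,3,1,4,1,4],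
  [1,2,4,0,1,4,0,0],
  [1,2,1,0,1,4,1],
  [0,4,1,1,2,4],
  [1,4,0,1,4,1,2],
  [1,0,1,4,1,4],
  [1,1,3,1,4],
  [0,0,1,1,4,1],
  [2,0,0,1,1,4,1],
  [1,1,2,1,4,0],
  [4,0,1,4,2],
  [3,4,0,1,4,0],
  [2,4,0,1,4,0],
  [4,0,1,4,0],
  [1,2,1,1,4],
  [0,0,1,2,1,4,1],
  [0,2,0,1,1,4,1],
  [1,1,1,4,0],
  [0,1,0,4,0,0],
  [0,1,2,0,4,1],
  [3,0,1,0,4,0,0],
  [3,0,1,2,0,4,1],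
  [0,3,1,0,4,0,0],
  [0,1,3,0,4,1],
  [0,1,0,4,1,2],
  [0,4,1,2,0,4,0],
  [1,1,2,1,4],
  [0,0,3,1,1,4,0,0],
  [1,1,0,0,1,1,4],
  [1,1,1,3,4],
  [2,0,4,0,1,4],
  [0,4,0,1,4],
  [4,0,1,4,0,1],
  [3,0,4,0,1,4],
  [1,1,1,4],
  [0,3,0,1,1,4,1],
  [2,0,3,0,1,1,4,1],
  [3,1,1,1,4],
  [1,2,0,1,0,4],
  [3,1,4,0,3,1,4],
  [1,1,2,0,1,4,1],
  [0,4,1,1,4,1],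
  [1,4,0,3,1,4],
  [1,0,1,0,2,4],
  [3,4,0,1,0,0,4,1],
  [2,1,4,1,2],
  [1,4,1,2],
  [4,0,1,0,0,4,1],
  [2,1,0,1,1,4,0],
  [1,0,1,1,4,0],
  [1,1,1,0,0,4],
  [3,1,0,1,1,4,0],
  [0,1,0,0,1,1,2,4],
  [4,0,3,4,0],
  [2,4,0,3,4,0],
  [0,1,2,0,0,1,1,4],
  [1,0,1,0,4]]

/-- Words reaching the vectors of the second shell in increasing order. (part). -/
def reachWords8 : List (List Nat) := [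
  [1,4,0,1,2,4,0],
  [0,4,1,4,0,4,1],
  [0,3,4,1,1,4,1],
  [1,2,4,0,3,1,4],
  [1,0,3,1,0,4],
  [0,1],
  [4,0,0],
  [0,1,1,4,2],
  [0,1,0,1,0,4,2],
  [0,0,1,0,0,1,4,2],
  [4,3,4,0,1,1,4,2],
  [3,0,1,0,1,0,4,2],
  [0,2,1,1,4,2],
  [0,0,2,0,4,1],
  [1,4,0,0,2,4],
  [0,4,1,4,1,4],
  [0,1,0,1,4,0,2],
  [1,3,0,1,0,0,4],
  [0,1,2,1,1,4],
  [1,0,3,0,1,4,0,1],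
  [4,0,0,4,2],
  [1,1,1,0,1,4,0,0],
  [1,2,1,1,0,1,4,1],
  [0,2,0,1,4,0],
  [1,1,4,0,1],
  [2,1,1,4,0,1],
  [1,2,1,4,1],
  [1,4,3,0,4,1],
  [3,0,0,1,4,0],
  [1,2,0,1,4,1,1,4],
  [1,0,4,1,1,2,4],
  [0,0,1,4,0],
  [1,0,2,0,1,4,1],
  [3,0,1,1,1,4,0],
  [0,1,2,0,1,4],
  [1,0,1,0,0,4],
  [0,1,1,1,4,0],
  [1,4,0,3,0,4,1],
  [1,3,4,1,0,4,0],
  [0,1,2,1,4,0],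
  [0,1,2,0,1,0,4,0],
  [4,3,4,1,1,0,0,4],
  [4,1,4,0,1,0,4,0],
  [0,1,0,1,0,2,4],
  [1,1,0,0,4],
  [4,0,1,2],
  [4,0,4,1,0,1,4,0],
  [1,1,4,0,1,4,2],
  [1,0,0,3,4,0],
  [1,3,0,0,4],
  [3,1,1,4,0,1,4,2],
  [4,3,4,1,0,0,3,4,0],
  [1,0,3,4,0],
  [0,0,1,1,1,4,1],
  [0,3,0,4,1,0,4,0],
  [1,2,0,4,2],
  [0,1,4,1],
  [2,0,1,4,1],
  [3,0,1,4,1],
  [0,4,3,0,4,1],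
  [3,1,0,4,0],
  [2,0,0,4,1,0,4,0],
  [0,0,4,1,0,4,0],
  [1,0,4,0],
  [4,3,4,1,0,0,4],
  [1,1,2,4,0,1,4,0],
  [2,1,0,0,4],
  [1,0,0,4],
  [0,4,0,1,0,0,4],
  [0,0,1,0,1,4,1,2],
  [0,1,0,4,1,4,0],
  [0,4,0,2],
  [2,0,4,0,2],
  [3,0,1,0,4,1,4,0],
  [0,0,1,4,1,4,0],
  [0,0,3,1,0,4,1],
  [0,0,3,1,0,4,0,0],
  [0,0,1,3,0,4,1],
  [0,2,1,0,4,1,4,0],
  [2,4,1,4],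
  [4,1,4],
  [0,1,0,1,1,0,4],
  [1,0,0,1,4,0,4,1],
  [1,2,0,0,1,1,4,1],
  [1,4,2,0,0,1,1,4],
  [1,0,2,0,1,1,4,1],
  [1,2,0,0,1,1,4,0,0],
  [1,1,1,0,0,1,1,4],
  [1,0,0,1,1,4,1,2],
  [1,2,0,3,0,1,1,4,1],
  [0,1,0,2,4,1,4,0],
  [2,0,4],
  [0,4],
  [0,1,0,0,4,1,2],
  [0,3,0,1,4,1,4,0],
  [0,0,1,1,1,0,4],
  [0,0,1,0,4,1,2],
  [4,0,0,3,1,0,4,0],
  [0,1,0,3,0,4,1],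
  [0,2,4],
  [2,0,2,4],
  [4,0,1,3,0,0,4],
  [4,3,4,1,0,0,4,0],
  [1,3,1,4,0,1,4,0],
  [2,1,0,0,4,0],
  [1,0,0,4,0],
  [4,3,4,0,1,0,4],
  [4,3,4,2,1,0,0,4,0],
  [3,1,4,1,4],
  [0,3,0,4,1,0,4,1],
  [0,0,4,1,0,2,4],
  [1,4,1,4],
  [4,2,0,3,1,4],
  [0,4,0,4,1,2],
  [0,4,0,3,4,0],
  [4,0,3,2,1,4],
  [1,0,4],
  [0,0,4,1,0,4,1],
  [1,2,0,1,0,1,4],
  [3,1,0,4],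
  [4,3,4,1,3,0,0,4,0],
  [1,1,4,0,1,4,0],
  [1,0,4,1,4],
  [1,3,0,0,4,0],
  [3,1,1,4,0,1,4,0],
  [4,3,4,1,0,4,1,4],
  [0,0,2,4,1,4,0],
  [0,1,2,1,4,2],
  [0,1,2,0,1,0,4,2],
  [2,0,0,1,4,0,0,4],
  [0,0,1,4,0,0,4],
  [1,1,0,1,0,1,4],
  [0,1,1,2,4],
  [4,1,0,0,2],
  [1,0,2,0,1,4,0,0],
  [3,0,1,1,1,4],
  [0,3,1,0,1,4],
  [0,1,0,1,3,4],
  [0,1,1,1,4],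
  [1,4,0,0,4,0,2],
  [0,2,0,1,4],
  [2,1,0,4,1,1,4,1],
  [1,0,4,1,1,4,1],
  [0,0,1,2,4],
  [1,2,1,4,0,0],
  [1,1,4,1,2],
  [1,4,0,4,1,2],
  [3,1,1,4,1,2],
  [0,0,1,4],
  [1,0,4,1,1,3,4]]

/-- Words reaching the vectors of the second shell in increasing order. (part). -/
def reachWords9 : List (List Nat) := [
  [1,0,3,4,1,1,4,1],
  [3,0,0,1,4],
  [1,2,0,0,1,4,0,0],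
  [0,1,1,1,2,4],
  [0,1,0,1,4],
  [2,0,1,0,1,4],
  [0,3,1,1,1,4],
  [1,4,0,0,2,1,4,0],
  [4,1,2],
  [0,1,1,4,0],
  [0,1,0,1,0,4,0],
  [0,0,1,0,0,1,4,0],
  [4,3,4,0,1,1,4,0],
  [0,1,0,3,1,0,4],
  [0,2,1,1,4,0],
  [4,0,3,0,0,4,1],
  [0,0],
  [0,4,1,0,1,0,4,1],
  [4,1,0,3,1,0,4],
  [2,4,1,0,1,0,4],
  [3,4,1,0,1,0,4],
  [2,0,1,4,0,1,1,4,0],
  [3,0,1,4,0,1,1,4,0],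
  [1,4,0,2,1,1,4,1],
  [1,1,1,4,1,0,0,4],
  [2,1,4,0,4,1,1,4],
  [0,4,0,3,1,1,4,1],
  [1,0,4,0,1,2,0,4,1],
  [0,2,4,0,3,1,1,4,1],
  [4,0,4,1,2,0,4],
  [0,4,1,0,1,4,0,2],
  [4,1,1,4,0,1,4],
  [4,1,0,0,2,4],
  [2,0,4,0,1,1,4,1],
  [3,0,4,0,1,1,4,1],
  [0,1,4,0,2,1,1,4,0],
  [0,4,0,1,1,1,4,1],
  [2,0,4,3,1,0,1,4],
  [4,1,4,0,0,3,4,0],
  [4,0,1,1,1,3,4],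
  [4,0,1,0,1,4,0],
  [3,2,4,0,1,1,4],
  [4,0,1,1,4],
  [4,0,1,0,1,0,4],
  [1,4,0,1,0,4,1],
  [0,4,0,1,4,1,4,0],
  [0,1,3,4,0,1,0,4],
  [0,4,1,0,4,1,4,0],
  [2,0,1,4,1,0,0,4,0],
  [4,0,1,0,2,4],
  [3,4,1,0,4,1,4],
  [3,4,0,3,1,0,4],
  [4,1,3,0,0,4,0],
  [2,1,2,4,0,1,0,1,4],
  [1,4,2,0,1,0,1,4],
  [2,0,4,0,2,1,1,4,0],
  [1,1,4,1,0,0,2,4],
  [0,4,2,1,0,0,4,0],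
  [2,1,4,0,1,2,1,4,2],
  [0,4,2,0,1,0,4],
  [1,3,0,4,1,0,0,4],
  [0,3,4,2,0,1,0,4],
  [4,1,0,1,0,4,0],
  [3,1,0,4,1,0,0,4],
  [1,4,1,0,0,4],
  [2,4,0,1,0,1,4],
  [3,4,0,1,0,1,4],
  [4,0,3,1,1,1,4],
  [4,2,0,1,0,1,4],
  [1,3,0,4,0,1,1,4,1],
  [1,3,4,1,0,1,0,4],
  [0,0,4,0,1,2,1,4,2],
  [0,4,0,1,1,2,4],
  [4,1,0,4,0,4,1,2],
  [4,0,2,1,1,4,0],
  [2,4,0,1,1,4,0],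
  [3,4,0,1,1,4,0],
  [3,1,4,0,1,1,4,0],
  [2,1,4,0,1,1,4,0],
  [0,0,4,0,1,1,4,0],
  [0,4,0,4,1,1,4],
  [1,0,4,0,1,0,4,2],
  [0,4,1,1,0,1,4,1],
  [2,1,4,0,1,1,4,1],
  [4,0,4,1,2,0,0,4],
  [2,1,4,0,1,1,2,4,0],
  [1,3,4,1,0,1,4,0],
  [1,3,4,0,1,0,4,2],
  [0,0,4,0,1,1,4,2],
  [2,4,0,1,1,4,1],
  [3,4,0,1,1,4,1],
  [4,0,3,1,1,4,0,0],
  [4,1,0,1,4],
  [4,0,2,1,1,4,1],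
  [4,1,0,1,3,4],
  [2,4,2,1,0,1,4,0],
  [3,4,3,1,0,1,4,0],
  [2,4,3,1,0,1,4,0],
  [3,4,2,1,0,1,4,0],
  [4,1,0,1,4,0],
  [1,4,1,0,2,0,4],
  [0,4,1,1,0,1,4,0],
  [1,1,1,4,1,0,1,4,0],
  [1,3,4,1,0,3,1,4],
  [2,0,4,0,1,3,0,4,1],
  [1,3,0,4,0,1,1,4,2],
  [1,4,2,0,4,1,1,4],
  [0,0,4,0,1,2,1,4,0],
  [0,4,0,1,1,4,0,0],
  [4,3,0,4,1,0,4,1],
  [4,0,2,1,0,1,4,1],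
  [4,1,3,0,0,1,4,0],
  [3,4,0,4,1,0,4,1],
  [4,1,0,2,0,1,4],
  [4,0,0,1,0,0,4,0],
  [0,4,1,2,0,1,4,1],
  [2,4,1,0,0,1,4,0],
  [0,4,1,2,0,1,4],
  [1,2,4,1,4,0,0,4],
  [3,4,1,0,1,1,1,4],
  [4,1,3,0,0,1,4],
  [0,0,4,0,2,1,1,4],
  [0,4,0,1,1,4,0,1],
  [0,2,4,1,1,0,0,4],
  [1,3,0,4,0,1,1,4,0],
  [0,3,4,1,2,0,1,4],
  [2,4,0,4,1,1,0,0,4],
  [0,4,1,1,0,0,4],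
  [2,0,4,1,0,2,0,1,4],
  [0,4,0,1,4,0,4,1],
  [3,2,0,4,1,1,0,0,4],
  [0,2,0,4,0,2,1,1,4],
  [1,1,4,2,1,0,1,4],
  [3,4,0,4,1,0,4],
  [2,4,0,4,1,0,4],
  [4,3,0,4,1,0,4],
  [3,4,1,4,0,0,4,0],
  [3,0,4,1,0,0,4,2],
  [2,0,4,1,0,0,4,2],
  [4,0,4,1,0,0,4,2],
  [2,1,4,0,1,1,4,2],
  [4,1,0,1,4,1],
  [4,0,1,2,1,4],
  [2,4,0,1,3,1,4],
  [3,4,0,1,3,1,4],
  [0,4,2,1,0,0,4],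
  [0,2,1,4,0,1,1,4],
  [0,4,2,0,1,0,4,0],
  [0,1,4,0,1,1,4],
  [0,3,4,2,0,1,0,4,0]]

/-- Words reaching the vectors of the second shell in increasing order. (part). -/
def reachWords10 : List (List Nat) := [
  [4,1,0,1,4,1,4],
  [4,1,4,0,1,4,1,2],
  [1,4,1,0,0,2,4],
  [0,0,4,0,3,1,0,4],
  [1,3,4,1,0,0,1,4],
  [1,0,2,4,0,1,1,4],
  [0,4,2,1,4,0,0,4],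
  [2,0,4,1,0,3,1,4],
  [4,1,0,2,0,4,1,2],
  [3,4,1,0,1,1,0,4],
  [4,0,1,0,4,1,2],
  [1,1,3,4,1,0,0,4],
  [4,0,1,3,0,4,1],
  [4,1,0,2,0,4,1,0,0],
  [2,0,4,1,0,1,4],
  [3,0,4,1,0,1,4],
  [3,4,3,0,1,0,4,0,0],
  [1,4,0,4,1,0,4],
  [4,0,2,0,1,0,1,4],
  [2,0,4,0,1,2,1,4,1],
  [1,1,4,1,0,0,4,1],
  [0,4,3,0,1,1,1,4,0],
  [2,0,3,4,1,0,1,4],
  [3,0,3,4,1,0,1,4],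
  [0,0,4,2,0,1,0,4,2],
  [1,1,4,1,0,0,4,0],
  [2,0,4,0,2,1,1,4,1],
  [1,1,4,1,0,0,4],
  [1,1,1,4,2,1,0,1,4],
  [0,0,4,0,3,1,0,4,0],
  [1,3,4,1,4,0,0,4,0],
  [4,0,1,0,4,2],
  [3,4,1,0,0,4,0,2],
  [3,4,2,0,1,0,4,2],
  [4,1,0,2,0,4],
  [4,2,1,0,0,1,1,4],
  [4,1,0,1,0,2,4],
  [4,1,4,0,3,1,4],
  [1,4,1,0,0,4,1],
  [0,4,2,0,1,0,4,1],
  [0,0,4,0,1,4,1,4],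
  [0,2,0,4,0,1,0,4],
  [0,4,2,1,0,0,4,1],
  [2,1,4,0,1,2,1,4,0],
  [0,4,2,1,2,0,0,4],
  [0,0,4,0,1,0,4],
  [0,4,3,0,1,4,1,4,0],
  [0,0,4,0,1,0,4,1],
  [0,4,0,3,1,0,4,2],
  [0,4,1,0,2,4,1,4,0],
  [2,0,4,2,1,1,0,1,4],
  [4,1,4,0,1,4,0,2],
  [1,4,1,0,0,4,0],
  [1,1,4,0,1,0,4],
  [3,4,1,2,4,0,1,4],
  [4,1,0,1,0,4,0,0],
  [2,4,1,2,1,0,1,4,0],
  [4,0,4,1,1,4,0,0],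
  [4,1,4,0,1,4,2],
  [4,1,1,0,1,4],
  [4,0,1,4,0,1,4,0],
  [2,4,1,1,2,0,1,4],
  [4,1,0,1,0,4,1,2],
  [0,4,2,1,0,4,1,4,0],
  [2,1,4,0,2,1,1,4,0,0],
  [0,4,0,3,1,0,4,1],
  [0,0,4,0,1,0,3,4,0],
  [4,0,1,0,4,0,2],
  [3,4,1,0,0,4,2],
  [2,0,4,1,0,1,4,1],
  [4,1,0,2,0,4,0],
  [2,0,3,4,1,0,1,4,1],
  [0,4,0,3,4,1,0,4],
  [2,0,4,0,1,2,1,4],
  [3,0,4,0,1,2,1,4],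
  [4,0,4,0,1,0,4,2],
  [1,1,4,0,1,1,4,2],
  [1,3,4,1,0,1,4,1],
  [2,0,4,0,1,0,4,2],
  [4,1,0,1,4,0,0],
  [1,4,1,0,2,0,4,0],
  [2,4,0,1,1,2,4,0],
  [3,4,0,1,1,2,4,0],
  [1,4,1,4,0,1,4,1],
  [3,4,0,1,0,3,1,4],
  [4,0,1,1,2,1,4],
  [4,0,3,1,0,1,4,0],
  [2,0,4,0,4,1,0,4],
  [3,0,4,0,4,1,0,4],
  [2,0,2,4,0,4,1,0,4],
  [0,4,0,1,1,4,0,2],
  [2,0,4,0,1,1,4,0],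
  [3,0,4,0,1,1,4,0],
  [2,0,2,4,0,1,1,4,0],
  [0,4,0,1,1,1,4],
  [4,2,1,1,4,0,0,4],
  [4,1,4,0,3,0,4,1],
  [4,0,1,1,1,4,0],
  [4,1,0,1,0,0,4],
  [4,1,2,0,1,4,1],
  [4,1,1,0,0,4],
  [0,3,4,0,1,0,4],
  [1,4,0,1,0,4,0],
  [0,4,0,1,0,4],
  [3,2,0,4,0,1,0,4],
  [0,4,1,0,0,4,0],
  [2,4,0,4,0,1,0,4],
  [4,2,0,4,1,4,0,0,4],
  [0,4,0,1,2,1,4,2],
  [2,1,0,4,3,1,0,1,4],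
  [4,0,4,1,4,0,0,4],
  [4,2,0,1,0,4,0],
  [3,4,2,1,0,0,4],
  [3,4,0,1,0,4,0],
  [4,1,0,0,4],
  [2,0,1,4,0,1,1,4,1],
  [3,0,1,4,0,1,1,4,1],
  [1,4,0,1,2,1,4,1],
  [0,0,4,0,1,1,1,4,0],
  [4,3,1,4,0,1,4],
  [4,0,2,4,1,1,4],
  [3,4,1,1,0,1,4,0],
  [3,4,1,4,0,1,4],
  [1,4,0,3,1,0,4],
  [2,4,1,1,0,1,4,0],
  [1,4,3,1,0,1,4],
  [4,3,1,4,0,1,4,0],
  [4,1,2,1,0,1,4],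
  [4,3,1,0,4,0,1,4],
  [3,4,1,4,0,1,4,0],
  [2,4,1,4,0,1,4,0],
  [1,4,0,2,1,1,4,0],
  [2,1,2,4,0,1,1,4,0],
  [2,0,4,0,3,1,0,4],
  [1,3,4,1,0,4,1,4],
  [2,0,4,0,1,2,0,4,1],
  [3,0,4,0,3,1,0,4],
  [0,0,4,0,1,1,1,4],
  [0,4,1,2,1,0,1,4],
  [0,1,1,0,4,1,0,0,4],
  [1,1,4,1,0,2,0,4],
  [1,3,4,1,0,0,4,0,2],
  [2,4,0,4,0,3,1,0,4,0],
  [4,1,0,0,1,1,4,2],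
  [4,1,2,0,1,0,4,2],
  [4,3,1,4,0,1,2,4],
  [1,4,2,1,0,1,4],
  [4,2,0,1,0,4],
  [3,4,2,1,0,0,4,0],
  [3,4,0,1,0,4]]

/-- Words reaching the vectors of the second shell in increasing order. (part). -/
def reachWords11 : List (List Nat) := [
  [4,1,0,0,4,0],
  [0,1,0,4,0,3,1,0,4],
  [1,4,1,1,0,0,1,4],
  [0,4,0,1,2,1,4,0],
  [2,0,4,1,0,0,1,4,0],
  [0,4,0,1,2,1,4,0,0],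
  [0,0,4,3,0,4,1,0,4],
  [0,0,3,4,0,1,0,4],
  [1,0,4,2,0,1,0,4,2],
  [0,3,4,1,0,1,4,2],
  [2,1,3,4,1,4,0,0,4],
  [2,0,4,1,0,0,1,4],
  [3,0,4,1,0,0,1,4],
  [3,4,0,1,4,1,4,0],
  [4,1,0,4,1,4,0],
  [4,0,0,1,0,3,1,4],
  [4,3,0,1,4,1,4,0],
  [0,4,1,0,1,4,2],
  [4,0,3,1,0,4,1],
  [4,1,0,0,4,0,0],
  [3,4,0,1,0,4,1],
  [2,4,0,1,0,4,1],
  [1,4,1,4,0,0,4],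
  [4,3,0,1,0,4,1],
  [0,4,1,0,1,2,4],
  [0,1,3,4,1,4,0,0,4],
  [4,0,4,0,2,1,1,4,0],
  [1,0,4,0,3,1,0,4,0],
  [1,4,0,0,1,0,0,4],
  [3,4,1,4,0,1,4,1],
  [4,1,2,0,1,0,4,0],
  [4,3,1,4,0,1,4,1],
  [4,2,0,4,1,3,1,4],
  [4,1,3,4,1,0,0,4],
  [3,0,1,4,0,1,1,4,2],
  [1,4,0,2,1,1,4,2],
  [1,0,4,1,4,0,0,4],
  [0,3,4,1,0,0,4],
  [4,0,1,1,2,4],
  [0,3,4,0,1,0,4,0],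
  [0,0,4,1,0,0,4],
  [1,4,0,1,1,4],
  [4,2,0,4,1,0,0,4],
  [0,4,1,0,0,4],
  [3,2,0,4,1,0,0,4],
  [4,2,1,1,0,0,1,4],
  [4,1,4,0,0,4,0,2],
  [4,0,1,1,1,4],
  [1,0,4,0,1,1,4],
  [0,3,0,4,1,3,0,0,4],
  [1,4,1,0,0,1,1,4],
  [0,0,3,4,0,1,1,4,0],
  [2,0,4,3,0,1,1,4,1],
  [0,4,1,0,0,2,1,4,0],
  [2,0,4,0,1,1,2,4,0],
  [0,4,0,1,1,1,4,0],
  [0,0,4,1,2,1,0,1,4],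
  [1,1,0,4,1,0,0,4],
  [0,1,4,0,1,2,1,4],
  [2,0,1,4,1,0,1,3,4],
  [0,4,1,3,4,0,0,4],
  [4,0,1,1,1,4,1],
  [4,0,1,0,4,0,4,1],
  [4,2,1,4,0,0,4],
  [4,2,0,0,1,0,0,4],
  [4,1,4,2,0,0,4],
  [4,3,0,0,1,0,0,4],
  [4,0,1,0,1,4,0,0],
  [4,0,1,1,1,4,0,0],
  [4,0,1,0,1,4,1,2],
  [4,0,4,1,0,4,0],
  [4,0,3,0,1,0,0,4],
  [4,1,4,0,0,4],
  [2,0,1,4,1,0,1,4,0],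
  [0,2,4,0,4,1,0,4,0],
  [0,1,1,4,1,0,2,0,4],
  [0,4,0,4,1,0,4,0],
  [1,4,0,1,1,4,0,1],
  [0,0,1,4,1,0,0,4],
  [0,4,1,0,0,4,0,0],
  [3,0,0,4,1,1,0,0,4],
  [2,4,0,3,1,1,4,1],
  [1,4,0,1,0,4],
  [4,0,1,1,4,0,0],
  [4,1,2,0,1,4],
  [4,0,1,4,0,4,1],
  [4,3,1,0,1,2,4],
  [0,0,4,1,0,0,4,0],
  [3,4,1,0,1,4,2],
  [2,4,1,0,1,4,2],
  [3,4,1,0,1,2,4,0],
  [4,1,2,0,1,4,0],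
  [4,0,1,1,4,1,2],
  [0,4,1,0,0,4,1],
  [2,1,3,4,0,1,0,4],
  [0,4,0,4,0,1,0,4],
  [0,4,0,1,0,4,1],
  [0,0,4,1,1,0,1,4],
  [0,4,0,1,0,3,4,0],
  [2,0,1,4,1,0,0,4],
  [0,2,4,0,1,0,4,1],
  [3,1,0,4,0,1,0,4],
  [0,4,1,2,0,0,4],
  [0,2,4,1,0,0,4,1],
  [4,1,0,4,0,1,0,4,2],
  [4,1,0,4,2,1,4,0],
  [4,0,1,1,4,0,2],
  [3,4,1,0,4,0,4,1],
  [1,2,4,1,0,0,4,1],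
  [2,0,4,0,1,3,1,4],
  [3,0,4,0,1,3,1,4],
  [0,1,4,0,2,1,1,4,2],
  [0,4,0,1,1,3,1,4],
  [3,4,0,3,4,1,0,4],
  [4,1,4,0,4,1,4,0],
  [4,0,1,1,3,1,4],
  [4,0,1,0,1,4,2],
  [2,4,1,1,0,1,4,1],
  [3,4,1,1,0,1,4,1],
  [4,3,1,4,0,1,4,0,0],
  [4,2,1,1,0,1,4,1],
  [1,3,4,1,0,0,4,2],
  [2,0,4,2,0,1,0,4,2],
  [1,4,0,1,2,1,4],
  [2,0,4,1,0,2,0,4],
  [2,0,4,1,4,0,0,4,0],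
  [3,0,4,1,4,0,0,4,0],
  [1,4,0,4,2,0,1,0,4],
  [0,3,4,1,0,4,0,4,1],
  [4,0,3,1,0,4,2],
  [0,4,1,0,4,0,4,1],
  [3,4,0,1,0,3,4,0],
  [4,1,2,0,0,4],
  [3,1,0,4,1,0,1,4],
  [2,1,0,4,1,0,1,4],
  [1,3,4,1,0,1,4],
  [2,1,4,3,0,1,1,4,1],
  [4,1,0,1,4,0,1],
  [4,0,2,1,1,4,2],
  [2,4,0,1,1,4,2],
  [3,4,0,1,1,4,2],
  [1,4,1,4,0,1,4],
  [2,4,0,4,1,4,1,4],
  [4,0,1,2,1,1,4],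
  [0,4,1,2,0,1,4,0],
  [2,4,0,4,0,1,1,4,0],
  [1,4,1,2,1,0,1,4],
  [0,3,0,4,1,0,0,1,4],
  [0,4,0,1,1,4,1,2],
  [4,0,1,0,2,4,0]]

/-- Words reaching the vectors of the second shell in increasing order. (part). -/
def reachWords12 : List (List Nat) := [
  [3,4,1,0,0,3,4,0],
  [3,4,0,3,1,0,4,0],
  [4,1,3,0,0,4],
  [2,0,3,4,1,0,1,4,0],
  [0,2,4,1,4,0,0,4],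
  [3,2,0,4,1,4,0,0,4],
  [0,4,1,4,0,0,4],
  [0,4,1,0,2,0,4,1],
  [2,0,4,1,1,2,0,1,4],
  [0,4,3,0,1,0,4,1],
  [1,0,4,1,1,0,1,4],
  [2,1,4,1,2,0,1,4],
  [4,1,0,1,0,4,2],
  [4,1,4,0,1,3,4],
  [4,1,1,0,1,4,0,0],
  [1,0,4,0,4,1],
  [1,2,1,4,0,0,4],
  [4,1,1,4,0],
  [0,1,4,0,0,2,4],
  [0,0,4,0,2],
  [3,0,0,3,4,0],
  [1,2,0,0,1,0,0,4],
  [2,4,1,1,4],
  [1,1,0,0,2,1,4,0],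
  [2,1,0,1,4,1],
  [0,1,0,3,4,0],
  [4,0,1,2,4],
  [0,0,1,1,4,2],
  [1,1,1,4,1],
  [4,3,1,1,1,4],
  [0,0,1,2,1,4,2],
  [2,4,0,1,3,4],
  [2,0,1,0,4,2],
  [0,0,4,1,1,4],
  [1,2,4,0],
  [4,0,1,0,0,2,4],
  [3,4,0,1,0,4,1,4],
  [2,1,4,0,2],
  [2,1,0,1,1,4,1],
  [1,1,0,1,2,4,0],
  [1,0,4,0,1,4,2],
  [1,2,4,0,1,4,0],
  [1,1,2,0,1,4],
  [1,0,1,0,4,1,0,0],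
  [1,3,0,1,0,4,0,0],
  [1,3,0,1,4,1,4,0],
  [1,0,1,0,4,1,2],
  [1,2,1,0,1,4,0],
  [1,2,4,0,1,4],
  [0,1,4,0,1,4,0],
  [1,1,0,1,4],
  [1,0,1,2,1,4,0,0],
  [2,1,4,2],
  [1,0,0,3,1,0,1,4],
  [1,0,0,1,0,1,4],
  [1,2,4],
  [1,3,0,1,1,4,1],
  [0,3,1,4,1,4],
  [2,4,0,1,4,0,0],
  [0,0,1,2,1,4,0],
  [1,1,2,1,4,1],
  [4,1,0,2,4],
  [0,0,1,1,4,0],
  [4,0,1,4,1,2],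
  [0,1,4,1,4],
  [2,1,0,1,4,0,0],
  [1,1,3,0,0,1,4,0],
  [2,4,1,1,4,0,0],
  [2,0,1,4,0,0,4,0],
  [0,2,0,4],
  [0,0,4],
  [3,0,1,4,0,0,4,0],
  [4,1,4,0,3,4,0],
  [1,1,0,0,1,4,0],
  [1,0,4,0,3,4,0],
  [1,0,0,1,1,2,4,0],
  [0,0,1,0,2,4,0],
  [0,4,0,0],
  [0,1,0,0,3,4,0],
  [0,1,3,0,0,4],
  [2,4,1,4,0],
  [0,0,3,1,0,4,0],
  [2,1,0,0,1,1,4,2],
  [0,3,1,4],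
  [4,0,0,1,1,4],
  [1,4,1,4,0],
  [3,1,0,4,1],
  [0,3,0,1,1,1,4],
  [0,3,2,1,4],
  [1,0,0,4,1],
  [1,1,4,0,1,3,4],
  [3,1,1,4,0,1,4,0,0],
  [1,0,2,0,4,1],
  [0,0,1,0,1,4,0,2],
  [0,1,3,0,1,0,0,4],
  [0,0,3,1,0,1,4],
  [1,4,0,1,0,0,4],
  [2,1,0,4,1,4,0],
  [3,1,1,4,0,1,2,4],
  [1,1,4,0,1,4,1,2],
  [1,0,3,0,4,1],
  [0,2,1,4],
  [0,0,1,2,1,1,4],
  [3,1,0,4,0,0],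
  [1,3,0,4,1],
  [0,0,1,1,1,4],
  [0,1,4],
  [1,2,0,0,1,1,2,4],
  [0,2,0,1,0,4],
  [2,0,4,1,0,0],
  [0,2,1,0,0,4,0],
  [0,1,0,0,4,0],
  [0,4,1,2],
  [0,0,1,0,4],
  [1,0,0,1,1,2,4],
  [1,1,4,0,2],
  [1,0,4,1,1,4,0,0],
  [4,0,0,4,0],
  [0,2,0,1,4,1],
  [1,2,1,1,0,1,4],
  [2,1,1,4,2],
  [0,1,0,1,4,0,1],
  [0,2,4,1,0,4,0],
  [0,3,4,1,0,4,0],
  [2,0,1,0,1,4,0,0],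
  [1,0,0,1,4,2],
  [1,3,4,2,0,0,4],
  [1,0,0,2,1,4,0],
  [1,4,0,0,4],
  [0,2,1,0,1,4,0,1],
  [3,0,1,1,1,4,1],
  [0,4,1,0,4,0],
  [0,1,0,1,4,1,2],
  [2,1,1,2,4,0],
  [1,1,1,2,0,1,4],
  [0,3,0,1,4,1],
  [4,0,3,0,4,1],
  [1,1,1,0,1,4],
  [1,1,2,4],
  [4,2,4,1,0,1,2,4],
  [0,1,0,1,0,4,1],
  [0,1,0,1,2,0,4,1],
  [2,0,0,1,4,0,0,4,0],
  [0,1,1,4,0,1],
  [0,2,1,1,4,0,1],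
  [0,1,2,1,4,0,0],
  [0,1,1,4,1,2],
  [2,4,1,4,0,1,0,4],
  [0,1,3,0,1,0,4,1],
  [0,2,1,0,1,0,4,1]]

/-- Words reaching the vectors of the second shell in increasing order. (part). -/
def reachWords13 : List (List Nat) := [
  [4,2,4,1,0,1,4,2],
  [4,2],
  [0,0,2,0,4,2],
  [0,0,2,0,4,0],
  [4,0],
  [0,3,0,0,4,2],
  [3,4],
  [2,4],
  [0,3,0,0,4,0],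
  [4,2,4,2,1,0,1,4],
  [0,1,0,3,1,0,4,1],
  [4,3,4,1,0,1,4,0],
  [4,2,4,1,0,1,4,0],
  [0,1,2,1,4,1],
  [2,0,1,1,4,1],
  [3,0,1,1,4,1],
  [3,0,2,1,1,4,1],
  [0,1,0,0,1,0,0,4],
  [4,3,4,1,0,1,4],
  [1,0,0,3,1,1,1,4],
  [4,2,4,3,1,0,1,4,0],
  [1,2,1,4],
  [2,1,0,4,1,1,4],
  [3,0,0,1,4,0,0],
  [2,0,0,1,4,0,0],
  [3,1,0,4,1,1,4],
  [1,1,3,4],
  [2,0,1,0,1,4,1],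
  [0,3,4,1,0,4,1],
  [1,0,1,1,1,4],
  [3,0,1,0,1,4,1],
  [1,0,2,0,1,4,0],
  [3,1,0,0,1,4],
  [1,0,0,1,4,0],
  [1,3,0,0,1,4],
  [0,1,0,4,3,0,4,1],
  [0,4,1,0,4,1],
  [1,0,3,1,1,1,4],
  [3,0,2,1,0,1,4,1],
  [1,1,4],
  [1,3,0,4,1,1,4],
  [4,0,0,3,4,0],
  [4,0,0,2,1,4,0],
  [1,1,2,1,0,1,4],
  [2,1,1,4,0],
  [1,0,0,2,1,1,4],
  [0,2,0,1,0,4,0],
  [2,0,4,1],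
  [0,2,1,0,0,4],
  [0,1,0,0,4],
  [3,0,4,1],
  [0,0,1,0,4,0],
  [1,0,0,1,1,4,0],
  [0,2,1,4,0],
  [2,0,0,4,1,0,4],
  [1,2,0,4,1,2],
  [1,1,1,0,4],
  [3,0,0,4,1,0,4],
  [0,1,4,0],
  [2,1,0,0,4,1,0,0],
  [3,1,1,4,0,1,4,1],
  [1,1,4,0,3,1,4],
  [1,0,4,1,4,0,2],
  [0,0,1,2,0,1,4],
  [0,1,0,1,0,0,4],
  [0,0,1,0,1,4],
  [0,2,0,1,0,1,4],
  [1,0,1,1,0,4],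
  [0,4,0,1,2,0,0,4],
  [1,1,2,4,0,3,1,4],
  [2,1,0,0,4,1,2],
  [0,1,3,4],
  [0,0,1,1,1,4,0],
  [1,0,4,1,2],
  [4,1,2,0,4,0],
  [0,0,3,1,1,1,4],
  [2,0,1,2,4],
  [1,0,0,1,1,4],
  [0,0,1,0,2,4],
  [4,1,4,0,2],
  [0,1,0,4,1,4],
  [0,1,3,0,0,4,0],
  [4,2,0,4,2],
  [0,0,3,1,0,4],
  [1,2,0,0,1,1,4],
  [2,1,0,1,4,0,1],
  [1,1,3,4,0,0,4],
  [2,4,1,1,4,0,1],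
  [1,0,3,0,1,0,0,4],
  [3,0,0,4,2],
  [0,4,1,4],
  [1,0,0,1,0,0,4],
  [1,4,1,1,2,4],
  [1,1,4,0,0,4],
  [1,0,4,3,0,4,1],
  [0,3,1,0,4,0],
  [2,4,0,1,4,1],
  [0,0,2,1,1,4,2],
  [1,2,1,1,4,1],
  [4,1,0,4,0],
  [0,0,1,1,2,4],
  [4,0,4,3,0,4,1],
  [0,1,0,4,0],
  [0,0,2,4,1,1,4],
  [3,2,1,4],
  [1,0,0,3,1,0,1,4,0],
  [1,0,0,1,0,1,4,0],
  [1,4],
  [0,1,1,0,1,4,0],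
  [2,0,4,1,1,4],
  [0,3,1,4,0,1,4],
  [1,4,0,1,4,0],
  [3,0,4,1,1,4],
  [1,3,0,1,0,4,1],
  [2,1,0,1,0,4,1],
  [3,1,0,1,0,4,1],
  [1,0,4,1,2,0,4,0],
  [1,1,0,1,4,0],
  [1,4,0,1,4],
  [3,1,0,4,0,1,4],
  [1,2,1,0,1,4],
  [1,0,1,1,4,1,2],
  [1,4,0],
  [4,0,1,2,0,0,4],
  [1,0,2,0,1,0,1,4],
  [2,1,3,4],
  [2,0,1,1,0,1,4],
  [0,1,0,4],
  [4,0,1,2,4,0],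
  [0,1,1,0,0,4],
  [4,1,0,4,1],
  [3,4,1,4,1,4,0],
  [2,0,0,1,1,4],
  [2,4,0,3,1,4],
  [0,3,1,0,4],
  [1,0,1,4,1,2],
  [1,1,0,0,1,4],
  [4,1,1,4,2],
  [4,1,0,4,1,1,4,0],
  [0,0,2,4],
  [3,0,0,4,0],
  [2,1,0,0,1,0,0,4,0],
  [2,1,4,1,1,4,1],
  [1,1,3,0,0,1,4],
  [1,4,0,3,2,1,4],
  [2,4,0,4,0,1,0,4,1],
  [0,4,1,0,0,3,4,0],
  [2,4,0,4,1,0,0,4,1],
  [1,1,4,1,0,1,4,0],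
  [2,4,1,0,3,1,4]]

/-- Words reaching the vectors of the second shell in increasing order. (part). -/
def reachWords14 : List (List Nat) := [
  [3,4,1,0,3,1,4],
  [1,4,1,0,1,3,4],
  [4,2,1,0,1,4],
  [3,0,3,4,0,1,1,4],
  [4,0,4,1,0,2,4],
  [4,1,0,0,1,4],
  [3,2,4,1,0,0,1,4],
  [4,0,4,0,1,1,4],
  [2,0,2,4,0,1,1,4],
  [3,0,4,0,1,1,4],
  [2,0,4,0,1,1,4],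
  [4,1,0,0,4,1,2],
  [3,4,0,1,0,4,0,0],
  [4,0,0,1,0,1,4,0],
  [4,0,4,1,2,0,4,0],
  [1,4,0,0,1,0,0,4,0],
  [1,0,4,0,3,1,0,4,2],
  [0,4,0,2,1,1,4,2],
  [4,2,1,1,4,1,0,0,4],
  [0,4,0,4,0,1,1,4,0],
  [0,1,4,1,2,0,1,4],
  [3,1,0,1,4,1,0,0,4],
  [1,3,4,1,0,0,4,0,0],
  [4,2,1,1,0,1,4],
  [4,1,2,0,4,0,1,4],
  [1,4,0,3,1,0,4,1],
  [0,4,1,0,1,0,4,2],
  [4,1,1,0,1,3,4],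
  [4,1,0,4,0,1,4],
  [4,1,0,1,3,0,4,1],
  [2,4,2,0,4,1,1,4],
  [1,0,4,1,1,0,1,4,1],
  [0,4,0,3,1,0,4,0],
  [3,2,0,4,1,3,0,0,4],
  [0,4,1,3,0,0,4],
  [1,4,1,1,0,1,4,0],
  [2,0,4,0,2,1,1,4],
  [0,4,0,1,2,1,1,4],
  [0,0,4,3,0,1,0,4,1],
  [4,1,0,2,4,1,4,0],
  [3,4,2,0,1,0,4,1],
  [3,4,1,0,0,4,1],
  [2,4,1,0,0,4,1],
  [0,4,0,1,1,4,2],
  [3,2,0,4,0,1,1,4,2],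
  [0,2,4,0,1,1,4,2],
  [2,4,0,4,0,1,1,4,2],
  [3,4,1,0,0,1,4,2],
  [4,3,0,4,1,0,4,0],
  [4,1,3,4,0,0,4],
  [4,0,0,1,0,0,4],
  [3,4,0,1,1,4,0,1],
  [2,4,0,1,1,4,0,1],
  [4,0,2,1,1,4,0,0],
  [4,1,0,1,2,4],
  [2,0,4,0,1,4,1,4],
  [3,0,4,0,1,4,1,4],
  [2,0,4,1,0,0,2,4],
  [1,1,4,1,4,0,0,4],
  []]

/-- Words reaching the vectors of the second shell in increasing order. -/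
def reachWords : List (List Nat) :=
  reachWords0 ++ reachWords1 ++ reachWords2 ++ reachWords3 ++ reachWords4 ++ reachWords5 ++ reachWords6 ++ reachWords7 ++ reachWords8 ++ reachWords9 ++ reachWords10 ++ reachWords11 ++ reachWords12 ++ reachWords13 ++ reachWords14

end CfsgLib.Co1Cent
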