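import Cfsg.Agent.Co1Cent.Order
import Cfsg.Agent.Golay.BlockLocal

/-!
# The pointwise stabiliser of the sublattice

It is the group of order 512 made of sixteen permutations and thirty-two sign changes.
-/

set_option autoImplicit false
set_option maxRecDepth 100000
set_option maxHeartbeats 1000000
set_option linter.style.haveILetI false

namespace CfsgLib.Co1Cent

open Cfsg CfsgLib CfsgLib.Golay CfsgLib.Golay.SylowCert MulAction
open scoped Pointwise

attribute [local irreducible] CfsgLib.Leech.shortVecs CfsgLib.Leech.halfTable CfsgLib.Leech.quarterTable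

/-- The elements of the centraliser fixing the sublattice pointwise. -/
def qp : Subgroup Co0 where
  carrier := {g | g ∈ c0 ∧ ∀ v ∈ minusPart, g • v = v}
  one_mem' := ⟨one_mem _, fun v _ => one_smul _ v⟩
  mul_mem' := fun {a b} ha hb => ⟨mul_mem ha.1 hb.1, fun v hv => by rw [mul_smul, hb.2 v hv, ha.2 v hv]⟩
  inv_mem' := fun {a} ha => ⟨inv_mem ha.1, fun v hv => inv_smul_eq_iff.2 (ha.2 v hv).symm⟩

/-- The signs allowed. -/
def Off (w : golayCode) : Prop := ∀ p ∈ oct, (w : GolayPt → ZMod 2) p = 0

/-- The permutations allowed. -/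
def Fixes (σ : M24) : Prop := ∀ p ∈ oct, (σ : Equiv.Perm GolayPt) p = p

theorem fixes_iff_oct {σ : M24} (h : Fixes σ) (p : GolayPt) : (σ : Equiv.Perm GolayPt) p ∈ oct ↔ p ∈ oct := by
  refine ⟨fun hq => ?_, fun hp => by rw [h p hp]; exact hp⟩
  have := (σ : Equiv.Perm GolayPt).injective (h _ hq)
  rwa [this] at hq

theorem mem_qp_iff {g : Co0} : g ∈ qp ↔ ∃ w σ, Off w ∧ Fixes σ ∧ Leech.monoAut (w, σ) = g := by
  constructor
  · rintro ⟨-, hfix⟩
    have h8 : ∀ q ∈ oct, g • Leech.eightAt q = Leech.eightAt q := fun q hq => hfix _ fun p hp => by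
      rw [Leech.eightAt_apply, if_neg]
      exact fun e => hp (e ▸ hq)
    obtain ⟨⟨w, σ⟩, rfl⟩ := Leech.exists_monoAut (g := g) (by rw [h8 none none_mem_oct])
    exact ⟨w, σ, fun p hp => ((fix_eightAt_iff _ p).1 (h8 p hp)).2,
      fun p hp => ((fix_eightAt_iff _ p).1 (h8 p hp)).1, rfl⟩
  · rintro ⟨w, σ, hw, hσ, rfl⟩
    refine ⟨(monoAut_mem_c0_iff _).2 (fixes_iff_oct hσ), fun v hv => Subtype.ext (funext fun p => ?_)⟩
    rw [Leech.monoAut, mul_smul, Leech.signAut_apply]
    simp only [Leech.flipSign, Leech.permHom_apply]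
    set q := (σ : Equiv.Perm GolayPt)⁻¹ p with hqdef
    have hqp : (σ : Equiv.Perm GolayPt) q = p := Equiv.apply_symm_apply _ p
    by_cases hp : p ∈ oct
    · have hq : q = p := (σ : Equiv.Perm GolayPt).injective (hqp.trans (hσ p hp).symm)
      rw [hq]
      simp [hw p hp]
    · have hq : q ∉ oct := fun h => hp (hqp ▸ (fixes_iff_oct hσ q).2 h)
      rw [hv q hq, hv p hp]
      simp

/-! ### The sixteen permutations -/

/-- The position lists of the permutations. -/
def fixList : List (List ℕ) := els fixGens 4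

theorem fixGens_pc : PcOK fixGens := by decide +kernel

theorem fixList_ok : fixList.length = 16 ∧ fixList.Nodup ∧
    (∀ L ∈ fixList, InOct L ∧ ∀ i ∈ oPos, L.getD i 0 = i) ∧
    (∀ L ∈ fixList, compL L L = List.range 24) ∧
    ∀ L ∈ fixList, ∀ M ∈ fixList, compL L M = compL M L := by decide +kernel

/-- The type of the permutations. -/
abbrev Fixer : Type := ↥(M24 ⊓ fixingSubgroup (Equiv.Perm GolayPt) (oct : Set GolayPt))

theorem fixer_iff (σ : M24) :
    (σ : Equiv.Perm GolayPt) ∈ M24 ⊓ fixingSubgroup (Equiv.Perm GolayPt) (oct : Set GolayPt) ↔ Fixes σ := by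
  rw [Subgroup.mem_inf, mem_fixingSubgroup_iff]
  exact ⟨fun h p hp => h.2 p hp, fun h => ⟨σ.2, fun p hp => h p hp⟩⟩

theorem card_fixer : Nat.card Fixer = 16 := (octad_fixing oct_mem).1

theorem list_of_fixes {σ : M24} (h : Fixes σ) : toList (σ : Equiv.Perm GolayPt) ∈ fixList := by
  obtain ⟨hlen, hnd, hok, -, -⟩ := fixList_ok
  have hex : ∀ i : Fin fixList.length, ∃ s : Fixer, toList (s : Equiv.Perm GolayPt) = fixList[i.val] := fun i => by
    obtain ⟨hin, hfix⟩ := hok _ (List.getElem_mem i.2)
    obtain ⟨τ, hτ, -⟩ := exists_inOct hin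
    refine ⟨⟨(τ : Equiv.Perm GolayPt), (fixer_iff τ).2 fun p hp => idx_injective ?_⟩, hτ⟩
    rw [← toList_getD_idx, hτ, hfix _ ((oPos_spec p).1 hp)]
  choose f hf using hex
  haveI : Finite Fixer := Nat.finite_of_card_ne_zero (by rw [card_fixer]; norm_num)
  have hinj : Function.Injective f := fun a b hab => by
    refine Fin.ext ((hnd.getElem_inj_iff (hi := a.2) (hj := b.2)).1 ?_)
    rw [← hf, ← hf, hab]
  obtain ⟨i, hi⟩ := (hinj.bijective_of_nat_card_le (by rw [card_fixer, Nat.card_fin, hlen])).2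
    ⟨(σ : Equiv.Perm GolayPt), (fixer_iff σ).2 h⟩
  have := hf i
  rw [hi] at this
  exact this ▸ List.getElem_mem i.2

theorem fixes_sq {σ : M24} (h : Fixes σ) : σ * σ = 1 := by
  refine Subtype.ext (toList_injective ?_)
  rw [Subgroup.coe_mul, toList_mul, Subgroup.coe_one, toList_one]
  exact fixList_ok.2.2.2.1 _ (list_of_fixes h)

theorem fixes_comm {σ τ : M24} (h : Fixes σ) (h' : Fixes τ) : σ * τ = τ * σ := by
  refine Subtype.ext (toList_injective ?_)
  rw [Subgroup.coe_mul, Subgroup.coe_mul, toList_mul, toList_mul]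
  exact fixList_ok.2.2.2.2 _ (list_of_fixes h) _ (list_of_fixes h')

/-! ### The thirty-two sign changes -/

/-- The code coordinates of the sign changes. -/
def offCodes : List ℕ := (List.range 4096).filter fun c => word c &&& baseOctad == 0

theorem offCodes_length : offCodes.length = 32 := by decide +kernel

theorem mem_offCodes {c : ℕ} : c ∈ offCodes ↔ c < 4096 ∧ word c &&& baseOctad = 0 := by
  rw [offCodes, List.mem_filter, List.mem_range, beq_iff_eq]

attribute [local irreducible] offCodes

theorem off_vec_iff (c : ℕ) : (∀ p ∈ oct, vec (word c) p = 0) ↔ word c &&& baseOctad = 0 := by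
  constructor
  · intro h
    refine Nat.eq_of_testBit_eq fun i => ?_
    rw [Nat.testBit_and, Nat.zero_testBit]
    cases hb : baseOctad.testBit i
    · rw [Bool.and_false]
    have hi : i < 24 := by
      by_contra hi
      have hlt : baseOctad < 2 ^ i := lt_of_lt_of_le (show baseOctad < 2 ^ 24 by decide)
        (Nat.pow_le_pow_right (by norm_num) (Nat.le_of_not_lt hi))
      rw [Nat.testBit_lt_two_pow hlt] at hb
      exact Bool.false_ne_true hb
    have h1 := h (pt i) (by rw [mem_oct, idx_pt i hi]; exact hb)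
    simp only [vec, idx_pt i hi] at h1
    cases hw : (word c).testBit i
    · rfl
    · rw [hw, if_pos rfl] at h1
      exact absurd h1 one_ne_zero
  · intro h p hp
    rw [mem_oct] at hp
    have := congrArg (fun n => n.testBit (idx p)) h
    simp only [Nat.testBit_and, hp, Bool.and_true, Nat.zero_testBit] at this
    simp [vec, this]

theorem exists_offCode {w : golayCode} (h : Off w) :
    ∃ c ∈ offCodes, (w : GolayPt → ZMod 2) = vec (word c) := by
  have hx := (mem_code_iff (w : GolayPt → ZMod 2)).1 w.2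
  refine Exists.elim hx fun c hce => ⟨c, mem_offCodes.2 ⟨hce.1, ?_⟩, hce.2⟩
  exact (off_vec_iff c).1 fun p hp => by rw [← hce.2]; exact h p hp

/-- The code word outside the octad. -/
def coWord : golayCode := octWord + Leech.oneWord

theorem coWord_apply (p : GolayPt) : (coWord : GolayPt → ZMod 2) p = if p ∈ oct then 0 else 1 := by
  show (octWord : GolayPt → ZMod 2) p + 1 = _
  rw [octWord_apply]
  by_cases hp : p ∈ oct <;> simp [hp, CharTwo.add_self_eq_zero]

theorem shift_check : ∀ L ∈ fixList, ∀ c ∈ (List.range 4096).filter (fun c => word c &&& baseOctad == 0),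
    (∀ p : GolayPt, vec (word c) (pt (L.getD (idx p) 0)) + vec (word c) p = 0) ∨
    ∀ p : GolayPt, vec (word c) (pt (L.getD (idx p) 0)) + vec (word c) p = if p ∈ oct then 0 else 1 := by
  decide +kernel

theorem separate_check : ∀ p : GolayPt, p ∉ oct → ∀ i : GolayPt,
    (∀ c ∈ (List.range 4096).filter (fun c => word c &&& baseOctad == 0), vec (word c) p = vec (word c) i) → i = p := by
  decide +kernel

theorem transitive_check : ∀ p : GolayPt, p ∉ oct → ∀ q : GolayPt, q ∉ oct →
    ∃ L ∈ fixList, L.getD (idx p) 0 = idx q := by decide +kernel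

/-- The shift of a code word by a permutation. -/
def shift (σ : M24) (w : golayCode) : golayCode :=
  ⟨fun i => (w : GolayPt → ZMod 2) ((σ : Equiv.Perm GolayPt)⁻¹ i), Leech.M24_code (inv_mem σ.2) w.2⟩

theorem add_self_code (u : golayCode) : u + u = 0 := Subtype.ext (funext fun p => CharTwo.add_self_eq_zero _)

theorem shift_cases {σ : M24} {w : golayCode} (hσ : Fixes σ) (hw : Off w) :
    w + shift σ w = 0 ∨ w + shift σ w = coWord := by
  obtain ⟨c, hc, he⟩ := exists_offCode hw
  rw [mem_offCodes] at hc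
  have hinv : σ⁻¹ = σ := inv_eq_of_mul_eq_one_right (fixes_sq hσ)
  have happ : ∀ p, ((w + shift σ w : golayCode) : GolayPt → ZMod 2) p =
      vec (word c) (pt ((toList (σ : Equiv.Perm GolayPt)).getD (idx p) 0)) + vec (word c) p := fun p => by
    show (w : GolayPt → ZMod 2) p + (w : GolayPt → ZMod 2) ((σ : Equiv.Perm GolayPt)⁻¹ p) = _
    rw [← InvMemClass.coe_inv, hinv, toList_getD_idx, pt_idx, he, add_comm]
  rcases shift_check _ (list_of_fixes hσ) c (List.mem_filter.2 ⟨List.mem_range.2 hc.1, by rw [hc.2]; rfl⟩) with h | h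
  · exact Or.inl (Subtype.ext (funext fun p => (happ p).trans (h p)))
  · exact Or.inr (Subtype.ext (funext fun p => by rw [happ p, h p, coWord_apply]))

theorem off_coWord : Off coWord := fun p hp => by rw [coWord_apply, if_pos hp]

/-- The central involution of the kernel. -/
def zz : Co0 := Leech.signAut coWord

theorem zz_eq : zz = octFlip * Leech.negAut := by
  rw [zz, coWord, ← Leech.signAut_mul, Leech.signAut_one]; rfl

theorem signAut_mem_qp {w : golayCode} (hw : Off w) : Leech.signAut w ∈ qp :=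
  mem_qp_iff.2 ⟨w, 1, hw, fun _ _ => rfl, (Leech.signAut_eq_monoAut w).symm⟩

theorem permHom_mem_qp {σ : M24} (hσ : Fixes σ) : Leech.permHom σ ∈ qp :=
  mem_qp_iff.2 ⟨0, σ, fun _ _ => rfl, hσ, (Leech.permHom_eq_monoAut σ).symm⟩

theorem zz_mem : zz ∈ qp := signAut_mem_qp off_coWord

theorem monoAut_mul' (w w' : golayCode) (σ σ' : M24) :
    Leech.monoAut (w, σ) * Leech.monoAut (w', σ') = Leech.monoAut (w + shift σ w', σ * σ') :=
  Leech.monoAut_mul (w, σ) (w', σ')

theorem monoAut_zero_or_co {u : golayCode} (h : u = 0 ∨ u = coWord) : Leech.signAut u = 1 ∨ Leech.signAut u = zz := by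
  rcases h with rfl | rfl
  · exact Or.inl Leech.signAut_zero
  · exact Or.inr rfl

theorem sq_cases {g : Co0} (hg : g ∈ qp) : g * g = 1 ∨ g * g = zz := by
  obtain ⟨w, σ, hw, hσ, rfl⟩ := mem_qp_iff.1 hg
  rw [monoAut_mul', fixes_sq hσ, ← Leech.signAut_eq_monoAut]
  exact monoAut_zero_or_co (shift_cases hσ hw)

theorem comm_cases {g h : Co0} (hg : g ∈ qp) (hh : h ∈ qp) : g * h = h * g ∨ g * h = zz * (h * g) := by
  obtain ⟨w, σ, hw, hσ, rfl⟩ := mem_qp_iff.1 hg
  obtain ⟨w', σ', hw', hσ', rfl⟩ := mem_qp_iff.1 hh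
  have hu : w + shift σ w' = ((w + shift σ' w) + (w' + shift σ w')) + (w' + shift σ' w) := by
    calc w + shift σ w' = w + shift σ w' + (w' + w') + (shift σ' w + shift σ' w) := by
          rw [add_self_code, add_self_code, add_zero, add_zero]
      _ = _ := by abel
  have key : Leech.monoAut (w, σ) * Leech.monoAut (w', σ') =
      Leech.signAut ((w + shift σ' w) + (w' + shift σ w')) * (Leech.monoAut (w', σ') * Leech.monoAut (w, σ)) := by
    rw [monoAut_mul', monoAut_mul', fixes_comm hσ hσ', Leech.monoAut, Leech.monoAut, ← mul_assoc,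
      Leech.signAut_mul, ← hu]
  rw [key]
  rcases shift_cases hσ' hw with h1 | h1 <;> rcases shift_cases hσ hw' with h2 | h2 <;> rw [h1, h2]
  · rw [add_zero, Leech.signAut_zero, one_mul]; exact Or.inl rfl
  · rw [zero_add]; exact Or.inr rfl
  · rw [add_zero]; exact Or.inr rfl
  · rw [add_self_code, Leech.signAut_zero, one_mul]; exact Or.inl rfl

theorem card_qp : Nat.card qp = 512 := by
  have hoff : Nat.card {w : golayCode // Off w} = 32 := by
    rw [← offCodes_length, ← List.toFinset_card_of_nodup (show offCodes.Nodup by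
      rw [offCodes]; exact List.nodup_range.filter _), ← Fintype.card_coe, ← Nat.card_eq_fintype_card]
    refine (Nat.card_congr (Equiv.ofBijective
      (fun c : offCodes.toFinset => (⟨⟨vec (word c.1), vec_word_mem _⟩,
        (off_vec_iff c.1).2 (mem_offCodes.1 (List.mem_toFinset.1 c.2)).2⟩ : {w : golayCode // Off w})) ⟨?_, ?_⟩)).symm
    · intro a b h
      have h1 : vec (word a.1) = vec (word b.1) :=
        congrArg (fun w : {w : golayCode // Off w} => (w.1 : GolayPt → ZMod 2)) h
      have ha := (mem_offCodes.1 (List.mem_toFinset.1 a.2)).1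
      have hb := (mem_offCodes.1 (List.mem_toFinset.1 b.2)).1
      have h2 := vec_inj (word_lt _ ha) (word_lt _ hb) h1
      exact Subtype.ext (by rw [← word_mod _ ha, h2, word_mod _ hb])
    · intro x
      refine Exists.elim (exists_offCode x.2) fun c hce => ?_
      exact ⟨⟨c, List.mem_toFinset.2 hce.1⟩, Subtype.ext (Subtype.ext hce.2.symm)⟩
  have hfix : Nat.card {σ : M24 // Fixes σ} = 16 := by
    rw [← card_fixer]
    exact Nat.card_congr
      { toFun := fun s => ⟨(s.1 : Equiv.Perm GolayPt), (fixer_iff s.1).2 s.2⟩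
        invFun := fun s => ⟨⟨s.1, s.2.1⟩, (fixer_iff ⟨s.1, s.2.1⟩).1 s.2⟩
        left_inv := fun _ => rfl
        right_inv := fun _ => rfl }
  rw [show (512 : ℕ) = 32 * 16 by norm_num, ← hoff, ← hfix, ← Nat.card_prod]
  refine (Nat.card_congr (Equiv.ofBijective
    (fun x : {w : golayCode // Off w} × {σ : M24 // Fixes σ} =>
      (⟨Leech.monoAut (x.1.1, x.2.1), mem_qp_iff.2 ⟨_, _, x.1.2, x.2.2, rfl⟩⟩ : qp)) ⟨?_, ?_⟩)).symm
  · intro a b h
    have h2 := Leech.monoAut_injective (congrArg Subtype.val h)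
    exact Prod.ext (Subtype.ext (Prod.ext_iff.1 h2).1) (Subtype.ext (Prod.ext_iff.1 h2).2)
  · rintro ⟨g, hg⟩
    obtain ⟨w, σ, hw, hσ, rfl⟩ := mem_qp_iff.1 hg
    exact ⟨(⟨w, hw⟩, ⟨σ, hσ⟩), rfl⟩

/-- What centralises the kernel is a sign change constant outside the octad. -/
theorem cent_qp {g : Co0} (hcomm : ∀ q ∈ qp, g * q = q * g) :
    g = 1 ∨ g = octFlip ∨ g = Leech.negAut ∨ g = zz := by
  have hy : ∀ p, p ∉ oct → ∀ i, i ≠ p → ((g • Leech.eightAt p : leechLattice) : GolayPt → ℤ) i = 0 := by
    intro p hp i hi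
    by_contra hne
    refine hi (separate_check p hp i fun c hc => ?_)
    rw [List.mem_filter, List.mem_range, beq_iff_eq] at hc
    set w : golayCode := ⟨vec (word c), vec_word_mem c⟩ with hw
    have hgw := hcomm _ (signAut_mem_qp (w := w) ((off_vec_iff c).2 hc.2))
    have h1 : ((Leech.signAut w • g • Leech.eightAt p : leechLattice) : GolayPt → ℤ) i =
        ((g • Leech.signAut w • Leech.eightAt p : leechLattice) : GolayPt → ℤ) i := by
      rw [← mul_smul, ← hgw, mul_smul]
    have hflip : Leech.signAut w • Leech.eightAt p =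
        if vec (word c) p = 1 then -Leech.eightAt p else Leech.eightAt p := by
      refine Subtype.ext (funext fun q => ?_)
      rw [Leech.signAut_apply]
      by_cases hq : q = p
      · subst hq
        by_cases hb : vec (word c) q = 1 <;> simp [Leech.flipSign, hw, hb]
      · by_cases hb : vec (word c) p = 1 <;> simp [Leech.flipSign, hw, hb, Leech.eightAt_apply, hq]
    rw [hflip, Leech.signAut_apply] at h1
    simp only [Leech.flipSign, hw] at h1
    rcases Leech.eq_zero_or_one (vec (word c) p) with e | e <;>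
      rcases Leech.eq_zero_or_one (vec (word c) i) with e' | e' <;> rw [e, e'] <;> rw [e, e'] at h1 <;>
      simp [Leech.smul_neg'] at h1 <;> omega
  obtain ⟨x, rfl⟩ : ∃ x, Leech.monoAut x = g := by
    refine Leech.exists_monoAut ?_
    have hp := outside_exists
    rw [← Leech.cls_smul g (Leech.cls_eightAt (pt 4)), ← Leech.cls_eightAt (pt 4)]
    have hn : sqNorm ((g • Leech.eightAt (pt 4) : leechLattice) : GolayPt → ℤ) = 64 :=
      (Leech.sqNorm_smul _ _).trans (Leech.sqNorm_eightAt _)
    rw [sqNorm, Finset.sum_eq_single (pt 4) (fun i _ hi => by rw [hy _ hp i hi]; rfl) (by simp)] at hn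
    have h8 : ((g • Leech.eightAt (pt 4) : leechLattice) : GolayPt → ℤ) (pt 4) = 8 ∨
        ((g • Leech.eightAt (pt 4) : leechLattice) : GolayPt → ℤ) (pt 4) = -8 :=
      sq_eq_sq_iff_eq_or_eq_neg.1 (hn.trans (by norm_num))
    rcases h8 with h8 | h8
    · congr 1
      funext i
      by_cases hi : i = pt 4
      · subst hi; rw [h8, Leech.eightAt_apply, if_pos rfl]
      · rw [hy _ hp i hi, Leech.eightAt_apply, if_neg hi]
    · rw [← Leech.cls_neg (Leech.eightAt (pt 4)).2]
      congr 1
      funext i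
      by_cases hi : i = pt 4
      · subst hi; rw [h8, Pi.neg_apply, Leech.eightAt_apply, if_pos rfl]
      · rw [hy _ hp i hi, Pi.neg_apply, Leech.eightAt_apply, if_neg hi, neg_zero]
  have hσ : x.2 = 1 := by
    refine Cert.eq_one_of_fix_outside oct_mem fun p hp => ?_
    by_contra hne
    have h1 := hy p hp ((x.2 : Equiv.Perm GolayPt) p) hne
    rw [Leech.monoAut_eightAt] at h1
    simp only [Leech.flipSign, Leech.eightAt_apply, if_true] at h1
    split_ifs at h1 <;> omega
  obtain ⟨w, σ⟩ := x
  subst hσ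
  rw [← Leech.signAut_eq_monoAut] at hcomm ⊢
  have hinv : ∀ p, p ∉ oct → ∀ q, q ∉ oct → (w : GolayPt → ZMod 2) p = (w : GolayPt → ZMod 2) q := by
    intro p hp q hq
    obtain ⟨L, hL, hLp⟩ := transitive_check p hp q hq
    obtain ⟨-, -, hok, -, -⟩ := fixList_ok
    obtain ⟨hin, hfix⟩ := hok L hL
    obtain ⟨τ, hτ, -⟩ := exists_inOct hin
    have hτf : Fixes τ := fun r hr => idx_injective (by rw [← toList_getD_idx, hτ, hfix _ ((oPos_spec r).1 hr)])
    have h1 := hcomm _ (permHom_mem_qp hτf)
    rw [Leech.permHom_mul_signAut, mul_left_inj] at h1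
    have e : Leech.monoAut (w, 1) = Leech.monoAut (shift τ w, 1) := by
      rw [← Leech.signAut_eq_monoAut, ← Leech.signAut_eq_monoAut]; exact h1
    have h2 := congrFun (congrArg Subtype.val (Prod.ext_iff.1 (Leech.monoAut_injective e)).1)
      ((τ : Equiv.Perm GolayPt) p)
    have hpq : (τ : Equiv.Perm GolayPt) p = q := idx_injective (by rw [← toList_getD_idx, hτ, hLp])
    simp only [shift, show (τ : Equiv.Perm GolayPt)⁻¹ ((τ : Equiv.Perm GolayPt) p) = p from
      Equiv.symm_apply_apply _ p] at h2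
    rw [← h2, hpq]
  have key : ∀ u : golayCode, (∀ p, p ∉ oct → (u : GolayPt → ZMod 2) p = 0) → u = 0 ∨ u = octWord := by
    intro u hu
    have hx := (mem_code_iff (u : GolayPt → ZMod 2)).1 u.2
    refine Exists.elim hx fun c hce => ?_
    have hsub : word c &&& baseOctad = word c := by
      refine Nat.eq_of_testBit_eq fun i => ?_
      rw [Nat.testBit_and]
      cases hb : (word c).testBit i
      · rfl
      have hi : i < 24 := by
        by_contra hi
        rw [Nat.testBit_lt_two_pow (lt_of_lt_of_le (word_lt c hce.1)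
          (Nat.pow_le_pow_right (by norm_num) (Nat.le_of_not_lt hi)))] at hb
        exact Bool.false_ne_true hb
      rw [Bool.true_and]
      by_contra hO
      have h0 := hu (pt i) (by rw [mem_oct, idx_pt i hi]; exact hO)
      rw [hce.2, vec, idx_pt i hi, hb] at h0
      simp at h0
    rcases code_in_oct c hce.1 hsub with h0 | h0
    · exact Or.inl (Subtype.ext (by rw [hce.2, h0, vec_zero]; rfl))
    · refine Or.inr (Subtype.ext (funext fun p => ?_))
      rw [hce.2, h0, octWord_apply, vec]
      simp only [mem_oct]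
  rcases Leech.eq_zero_or_one ((w : GolayPt → ZMod 2) (pt 4)) with hc | hc
  · rcases key w (fun p hp => (hinv p hp _ outside_exists).trans hc) with rfl | rfl
    · exact Or.inl Leech.signAut_zero
    · exact Or.inr (Or.inl rfl)
  · have hw : w + Leech.oneWord = 0 ∨ w + Leech.oneWord = octWord := key _ fun p hp => by
      show (w : GolayPt → ZMod 2) p + 1 = 0
      rw [hinv p hp _ outside_exists, hc]; rfl
    have e : w = (w + Leech.oneWord) + Leech.oneWord := by rw [add_assoc, add_self_code, add_zero]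
    rcases hw with h | h <;> rw [h] at e <;> subst e
    · rw [zero_add, Leech.signAut_one]; exact Or.inr (Or.inr (Or.inl rfl))
    · exact Or.inr (Or.inr (Or.inr rfl))

end CfsgLib.Co1Cent
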