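import Cfsg.Agent.Co1Cent.Data
import Cfsg.Agent.Leech.CentralizerP
import Cfsg.Agent.OmegaEight.Weyl

/-!
# The sublattice on an octad and its reduction modulo two

The vectors supported on an octad form a scaled lattice of type E₈; its reduction is the
eight-dimensional space of plus type over two elements.
-/

set_option autoImplicit false
set_option maxRecDepth 100000
set_option maxHeartbeats 1000000

namespace CfsgLib.Co1Cent

open Cfsg CfsgLib CfsgLib.Golay
open CfsgLib.OmegaEight (Idx root q2)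

attribute [local irreducible] CfsgLib.Leech.shortVecs CfsgLib.Leech.halfTable CfsgLib.Leech.quarterTable

/-- The octad. -/
def oct : Finset GolayPt := pts baseOctad

theorem mem_oct {p : GolayPt} : p ∈ oct ↔ baseOctad.testBit (idx p) = true := by simp [oct, pts]

/-- Its positions. -/
def oPos : List ℕ := [0, 1, 2, 3, 5, 14, 17, 23]

/-- Its indicator in the code. -/
def octWord : golayCode :=
  ⟨vec (word (baseOctad % 4096)), vec_word_mem _⟩

theorem octWord_apply : ∀ p : GolayPt, (octWord : GolayPt → ZMod 2) p = if p ∈ oct then 1 else 0 := by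
  decide +kernel

theorem oct_eq : oct = (oPos.map pt).toFinset := by decide +kernel

theorem oPos_nodup : (oPos.map pt).Nodup := by decide +kernel

theorem oPos_spec : ∀ p : GolayPt, p ∈ oct ↔ idx p ∈ oPos := by decide +kernel

theorem none_mem_oct : (none : GolayPt) ∈ oct := by decide +kernel

theorem outside_exists : pt 4 ∉ oct := by decide +kernel

theorem sum_oct {f : GolayPt → ℤ} (h : ∀ p, p ∉ oct → f p = 0) :
    ∑ p, f p = (oPos.map fun i => f (pt i)).sum := by
  rw [← Finset.sum_subset (Finset.subset_univ oct) fun p _ hp => h p hp, oct_eq,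
    List.sum_toFinset _ oPos_nodup, List.map_map]
  rfl

/-- The vectors supported on the octad. -/
def minusPart : AddSubgroup leechLattice where
  carrier := {v | ∀ p, p ∉ oct → (v : GolayPt → ℤ) p = 0}
  zero_mem' := fun p _ => rfl
  add_mem' := fun {v w} hv hw p hp => by
    show (v : GolayPt → ℤ) p + (w : GolayPt → ℤ) p = 0
    rw [hv p hp, hw p hp, add_zero]
  neg_mem' := fun {v} hv p hp => by
    show -(v : GolayPt → ℤ) p = 0
    rw [hv p hp, neg_zero]

/-- The sign change on the octad. -/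
def octFlip : Co0 := Leech.signAut octWord

theorem mem_minusPart_iff (v : leechLattice) : v ∈ minusPart ↔ octFlip • v = -v := by
  constructor
  · intro hv
    refine Subtype.ext (funext fun p => ?_)
    rw [octFlip, Leech.signAut_apply]
    show Leech.flipSign _ _ p = -(v : GolayPt → ℤ) p
    simp only [Leech.flipSign, octWord_apply]
    by_cases hp : p ∈ oct
    · simp [hp]
    · simp [hp, hv p hp]
  · intro h p hp
    have := congrFun (congrArg Subtype.val h) p
    rw [octFlip, Leech.signAut_apply] at this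
    change Leech.flipSign _ _ p = -(v : GolayPt → ℤ) p at this
    simp only [Leech.flipSign, octWord_apply, if_neg hp, zero_ne_one, if_false] at this
    omega

/-! ### The two shapes of a vector on the octad -/

theorem code_in_oct : ∀ c < 4096, word c &&& baseOctad = word c → word c = 0 ∨ word c = baseOctad :=
  forall_lt_4096 (by decide +kernel)

/-- A vector of the sublattice is four times an even-sum vector or twice an odd one. -/
theorem shape {v : leechLattice} (hv : v ∈ minusPart) :
    (∃ z : GolayPt → ℤ, (∀ p, (v : GolayPt → ℤ) p = 4 * z p) ∧ (∀ p, p ∉ oct → z p = 0) ∧ 2 ∣ ∑ p, z p) ∨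
    ∃ y : GolayPt → ℤ, (∀ p, (v : GolayPt → ℤ) p = 2 * y p) ∧ (∀ p, p ∉ oct → y p = 0) ∧
      (∀ p ∈ oct, y p % 2 = 1) ∧ 4 ∣ ∑ p, y p := by
  have hx := Leech.mem_leech v.2
  have h4 := hx.par (pt 4)
  rw [hv _ outside_exists] at h4
  have heven : ∀ p, (2 : ℤ) ∣ (v : GolayPt → ℤ) p := fun p => by
    have := hx.par p
    omega
  choose y hy using heven
  have hyO : ∀ p, p ∉ oct → y p = 0 := fun p hp => by
    have := hy p; rw [hv p hp] at this; omega
  obtain ⟨hc, hsum⟩ := (Leech.two_mul_mem_iff y).1 (by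
    have : (fun i => 2 * y i) = (v : GolayPt → ℤ) := funext fun p => (hy p).symm
    rw [this]; exact v.2)
  obtain ⟨c, hc4, hcw⟩ := (mem_code_iff _).1 hc
  have hbit : ∀ p, (word c).testBit (idx p) = true ↔ y p % 2 = 1 := fun p => by
    have h := congrFun hcw p
    simp only [vec] at h
    by_cases hb : (word c).testBit (idx p) = true
    · rw [if_pos hb, ← Int.cast_one (R := ZMod 2), ZMod.intCast_eq_intCast_iff'] at h
      exact iff_of_true hb (by omega)
    · rw [if_neg hb, ← Int.cast_zero (R := ZMod 2), ZMod.intCast_eq_intCast_iff'] at h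
      exact iff_of_false hb (by omega)
  have hsub : word c &&& baseOctad = word c := by
    refine Nat.eq_of_testBit_eq fun i => ?_
    rw [Nat.testBit_and]
    cases hb : (word c).testBit i
    · rfl
    have hi : i < 24 := by
      by_contra hi
      have := word_lt c hc4
      rw [Nat.testBit_lt_two_pow (lt_of_lt_of_le this (Nat.pow_le_pow_right (by norm_num) (Nat.le_of_not_lt hi)))] at hb
      exact Bool.false_ne_true hb
    rw [Bool.true_and]
    have hp : pt i ∈ oct := by
      by_contra hp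
      have := (hbit (pt i)).1 (by rw [idx_pt i hi]; exact hb)
      rw [hyO _ hp] at this
      omega
    rw [mem_oct, idx_pt i hi] at hp
    exact hp
  rcases code_in_oct c hc4 hsub with h0 | h0
  · left
    have hev : ∀ p, (2 : ℤ) ∣ y p := fun p => by
      have := hbit p
      rw [h0, Nat.zero_testBit] at this
      simp only [Bool.false_eq_true, false_iff] at this
      omega
    choose z hz using hev
    refine ⟨z, fun p => by rw [hy, hz]; ring, fun p hp => ?_, ?_⟩
    · have := hz p; rw [hyO p hp] at this; omega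
    · rw [show ∑ p, y p = 2 * ∑ p, z p by rw [Finset.mul_sum]; exact Finset.sum_congr rfl fun p _ => hz p] at hsum
      omega
  · right
    refine ⟨y, hy, hyO, fun p hp => (hbit p).1 ?_, hsum⟩
    rw [h0]
    rw [mem_oct] at hp
    exact hp

theorem sq_sum_parity (z : GolayPt → ℤ) : (2 : ℤ) ∣ ∑ p, z p ^ 2 - ∑ p, z p := by
  rw [← Finset.sum_sub_distrib]
  refine Finset.dvd_sum fun p _ => ?_
  rw [show z p ^ 2 - z p = z p * (z p - 1) by ring]
  exact (Int.even_mul_pred_self (z p)).two_dvd

/-- Norms are multiples of 32 on the sublattice. -/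
theorem norm_dvd {v : leechLattice} (hv : v ∈ minusPart) : (32 : ℤ) ∣ sqNorm (v : GolayPt → ℤ) := by
  rcases shape hv with ⟨z, hz, -, hs⟩ | ⟨y, hy, hyO, hodd, -⟩
  · have h := sq_sum_parity z
    have e : sqNorm (v : GolayPt → ℤ) = 16 * ∑ p, z p ^ 2 := by
      rw [sqNorm, Finset.mul_sum]; exact Finset.sum_congr rfl fun p _ => by rw [hz]; ring
    omega
  · have e : sqNorm (v : GolayPt → ℤ) = 4 * ∑ p, y p ^ 2 := by
      rw [sqNorm, Finset.mul_sum]; exact Finset.sum_congr rfl fun p _ => by rw [hy]; ring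
    have h : (8 : ℤ) ∣ ∑ p, y p ^ 2 - ∑ p, if p ∈ oct then (1 : ℤ) else 0 := by
      rw [← Finset.sum_sub_distrib]
      refine Finset.dvd_sum fun p _ => ?_
      by_cases hp : p ∈ oct
      · rw [if_pos hp]
        obtain ⟨k, hk⟩ : ∃ k, y p = 2 * k + 1 := ⟨y p / 2, by have := hodd p hp; omega⟩
        obtain ⟨m, hm⟩ := (Int.even_mul_succ_self k).two_dvd
        rw [hk, show (2 * k + 1) ^ 2 - 1 = 4 * (k * (k + 1)) by ring, hm]
        exact ⟨m, by ring⟩
      · rw [if_neg hp, hyO p hp]; exact ⟨0, by ring⟩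
    have hc : (∑ p, if p ∈ oct then (1 : ℤ) else 0) = 8 := by decide +kernel
    omega

theorem sqNorm_add (x y : GolayPt → ℤ) : sqNorm (x + y) = sqNorm x + 2 * dotInt x y + sqNorm y := by
  simp only [sqNorm, dotInt, Finset.mul_sum, ← Finset.sum_add_distrib, Pi.add_apply]
  exact Finset.sum_congr rfl fun p _ => by ring

theorem dot_dvd {v w : leechLattice} (hv : v ∈ minusPart) (hw : w ∈ minusPart) :
    (16 : ℤ) ∣ dotInt (v : GolayPt → ℤ) (w : GolayPt → ℤ) := by
  have h1 := norm_dvd hv; have h2 := norm_dvd hw; have h3 := norm_dvd (add_mem hv hw)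
  have h := sqNorm_add (v : GolayPt → ℤ) (w : GolayPt → ℤ)
  rw [AddSubgroup.coe_add] at h3
  omega

/-! ### The roots and the dual basis -/

/-- A coordinate list on the octad as a vector. -/
def ofO (l : List ℤ) (p : GolayPt) : ℤ := if p ∈ oct then l.getD (oPos.idxOf (idx p)) 0 else 0

theorem basis_test : ∀ k : Fin 8, Leech.LeechTest (ofO (rootsB.getD k.val [])) ∧
    Leech.LeechTest (ofO (dualB.getD k.val [])) ∧ sqNorm (ofO (rootsB.getD k.val [])) = 32 := by
  decide +kernel

/-- A simple root. -/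
def bB (k : Fin 8) : leechLattice := ⟨ofO (rootsB.getD k.val []), Leech.mem_of_test (basis_test k).1⟩

/-- The dual of a simple root. -/
def dB (k : Fin 8) : leechLattice := ⟨ofO (dualB.getD k.val []), Leech.mem_of_test (basis_test k).2.1⟩

theorem bB_mem (k : Fin 8) : bB k ∈ minusPart := fun p hp => if_neg hp

theorem dB_mem (k : Fin 8) : dB k ∈ minusPart := fun p hp => if_neg hp

theorem sqNorm_bB (k : Fin 8) : sqNorm (bB k : GolayPt → ℤ) = 32 := (basis_test k).2.2

theorem dual_identity : ∀ p q : GolayPt,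
    (∑ k : Fin 8, ofO (dualB.getD k.val []) q * ofO (rootsB.getD k.val []) p) =
      if p = q ∧ p ∈ oct then 16 else 0 := by decide +kernel

/-- Coordinates in the simple roots. -/
def kc (v : GolayPt → ℤ) (k : Fin 8) : ℤ := dotInt v (dB k : GolayPt → ℤ) / 16

theorem kc_spec {v : leechLattice} (hv : v ∈ minusPart) (k : Fin 8) :
    16 * kc (v : GolayPt → ℤ) k = dotInt (v : GolayPt → ℤ) (dB k : GolayPt → ℤ) :=
  Int.mul_ediv_cancel' (dot_dvd hv (dB_mem k))

theorem expand {v : leechLattice} (hv : v ∈ minusPart) : v = ∑ k, kc (v : GolayPt → ℤ) k • bB k := by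
  refine Subtype.ext (funext fun p => mul_left_cancel₀ (show (16 : ℤ) ≠ 0 by norm_num) ?_)
  simp only [AddSubmonoidClass.coe_finsetSum, AddSubgroup.coe_zsmul, Finset.sum_apply, Pi.smul_apply,
    smul_eq_mul, Finset.mul_sum, ← mul_assoc, kc_spec hv]
  simp only [dotInt, Finset.sum_mul]
  rw [Finset.sum_comm]
  simp only [mul_assoc, ← Finset.mul_sum]
  rw [Finset.sum_congr rfl fun q _ => by rw [show (∑ k : Fin 8, (dB k : GolayPt → ℤ) q * (bB k : GolayPt → ℤ) p) = _ from dual_identity p q]]
  rw [Finset.sum_eq_single p (fun q _ hq => by rw [if_neg fun h => hq h.1.symm, mul_zero]) (by simp)]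
  by_cases hp : p ∈ oct
  · rw [if_pos ⟨rfl, hp⟩]; ring
  · rw [hv p hp, zero_mul, mul_zero]

/-- The reduction modulo two. -/
def redK (k : Fin 8 → ZMod 2) : Idx → ZMod 2 := ∑ i, k i • root i

/-- The inverse of the reduction. -/
def cVec (a : Idx → ZMod 2) (i : Fin 8) : ZMod 2 :=
  ∑ j : Fin 8, (if j.val < 4 then a (Sum.inl (Fin.ofNat 4 j.val)) else a (Sum.inr (Fin.ofNat 4 j.val))) *
    (((liftRows.getD j.val []).getD i.val 0 : ℕ) : ZMod 2)

theorem redK_cVec : ∀ a : Idx → ZMod 2, redK (cVec a) = a := by decide +kernel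

theorem cVec_redK : ∀ k : Fin 8 → ZMod 2, cVec (redK k) = k := by decide +kernel

/-- The reduction of a vector. -/
def red (v : GolayPt → ℤ) : Idx → ZMod 2 := redK fun i => (kc v i : ZMod 2)

/-- A lift. -/
def lift (a : Idx → ZMod 2) : leechLattice := ∑ i, ((cVec a i).val : ℤ) • bB i

theorem lift_mem (a : Idx → ZMod 2) : lift a ∈ minusPart :=
  sum_mem fun i _ => zsmul_mem (bB_mem i) _

theorem lift_norm : ∀ a : Idx → ZMod 2,
    ((sqNorm (fun p => ∑ i : Fin 8, ((cVec a i).val : ℤ) * ofO (rootsB.getD i.val []) p) / 32 : ℤ) : ZMod 2) = q2 a := by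
  decide +kernel

theorem kc_add {v w : leechLattice} (hv : v ∈ minusPart) (hw : w ∈ minusPart) (k : Fin 8) :
    kc ((v + w : leechLattice) : GolayPt → ℤ) k = kc (v : GolayPt → ℤ) k + kc (w : GolayPt → ℤ) k := by
  refine mul_left_cancel₀ (show (16 : ℤ) ≠ 0 by norm_num) ?_
  rw [kc_spec (add_mem hv hw), mul_add, kc_spec hv, kc_spec hw, AddSubgroup.coe_add]
  simp [dotInt, add_mul, Finset.sum_add_distrib]

theorem red_add {v w : leechLattice} (hv : v ∈ minusPart) (hw : w ∈ minusPart) :
    red ((v + w : leechLattice) : GolayPt → ℤ) = red (v : GolayPt → ℤ) + red (w : GolayPt → ℤ) := by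
  rw [red, red, red, redK, redK, redK, ← Finset.sum_add_distrib]
  exact Finset.sum_congr rfl fun i _ => by rw [kc_add hv hw, Int.cast_add, add_smul]

theorem red_double {u : leechLattice} (hu : u ∈ minusPart) :
    red ((u + u : leechLattice) : GolayPt → ℤ) = 0 := by
  rw [red_add hu hu]
  exact funext fun x => CharTwo.add_self_eq_zero _

theorem exists_lift {v : leechLattice} (hv : v ∈ minusPart) :
    ∃ u ∈ minusPart, v = lift (red (v : GolayPt → ℤ)) + (u + u) := by
  have hc : ∀ i, cVec (red (v : GolayPt → ℤ)) i = (kc (v : GolayPt → ℤ) i : ZMod 2) := fun i =>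
    congrFun (cVec_redK _) i
  have hev : ∀ i, ∃ m, kc (v : GolayPt → ℤ) i = ((cVec (red (v : GolayPt → ℤ)) i).val : ℤ) + 2 * m := fun i => by
    rw [hc, ZMod.val_intCast]
    exact ⟨kc (v : GolayPt → ℤ) i / 2, (Int.emod_add_mul_ediv _ 2).symm⟩
  choose m hm using hev
  refine ⟨∑ i, m i • bB i, sum_mem fun i _ => zsmul_mem (bB_mem i) _, ?_⟩
  conv_lhs => rw [expand hv]
  rw [lift, ← Finset.sum_add_distrib, ← Finset.sum_add_distrib]
  refine Finset.sum_congr rfl fun i _ => ?_
  rw [← add_smul, ← add_smul, hm i]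
  congr 1
  ring

theorem norm_add_double {v u : leechLattice} (hv : v ∈ minusPart) (hu : u ∈ minusPart) :
    ((sqNorm ((v + (u + u) : leechLattice) : GolayPt → ℤ) / 32 : ℤ) : ZMod 2) =
      ((sqNorm (v : GolayPt → ℤ) / 32 : ℤ) : ZMod 2) := by
  have h1 := norm_dvd hv; have h2 := norm_dvd hu; have h3 := dot_dvd hv hu
  rw [AddSubgroup.coe_add, AddSubgroup.coe_add, sqNorm_add, sqNorm_add]
  rw [show dotInt (v : GolayPt → ℤ) ((u : GolayPt → ℤ) + (u : GolayPt → ℤ)) =
      2 * dotInt (v : GolayPt → ℤ) (u : GolayPt → ℤ) by simp [dotInt, mul_add, Finset.sum_add_distrib]; ring]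
  rw [show dotInt (u : GolayPt → ℤ) (u : GolayPt → ℤ) = sqNorm (u : GolayPt → ℤ) by
    simp [dotInt, sqNorm, pow_two]]
  rw [ZMod.intCast_eq_intCast_iff']
  omega

theorem q2_red {v : leechLattice} (hv : v ∈ minusPart) :
    q2 (red (v : GolayPt → ℤ)) = ((sqNorm (v : GolayPt → ℤ) / 32 : ℤ) : ZMod 2) := by
  obtain ⟨u, hu, he⟩ := exists_lift hv
  conv_rhs => rw [he]
  rw [norm_add_double (lift_mem _) hu, ← lift_norm]
  congr 4

theorem red_lift (a : Idx → ZMod 2) : red (lift a : GolayPt → ℤ) = a := by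
  have h : ∀ i, kc (lift a : GolayPt → ℤ) i = ((cVec a i).val : ℤ) := fun i => by
    refine mul_left_cancel₀ (show (16 : ℤ) ≠ 0 by norm_num) ?_
    rw [kc_spec (lift_mem a)]
    simp only [lift, AddSubmonoidClass.coe_finsetSum, AddSubgroup.coe_zsmul, dotInt, Finset.sum_apply,
      Pi.smul_apply, smul_eq_mul, Finset.sum_mul]
    rw [Finset.sum_comm]
    simp only [mul_assoc, ← Finset.mul_sum]
    have hpair : ∀ j, (∑ p, (bB j : GolayPt → ℤ) p * (dB i : GolayPt → ℤ) p) = if j = i then 16 else 0 :=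
      fun j => (by decide +kernel : ∀ i j : Fin 8, (∑ p, ofO (rootsB.getD j.val []) p * ofO (dualB.getD i.val []) p) =
        if j = i then 16 else 0) i j
    simp only [hpair, mul_ite, mul_zero, Finset.sum_ite_eq', Finset.mem_univ, if_true]
    ring
  refine Eq.trans ?_ (redK_cVec a)
  rw [red]
  congr 1
  funext i
  rw [h, Int.cast_natCast, ZMod.natCast_zmod_val]

end CfsgLib.Co1Cent
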