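import Cfsg.Agent.Co1Cent.Kernel
import Cfsg.Agent.LargeExtra.SimpleCriterion
import Cfsg.Agent.Comp.LocalLayer
import Cfsg.Agent.Quad.SimpleOmega
import Cfsg.Agent.Quad.POmega

/-!
# The first Conway group has an involution centraliser 2^(1+8).Ω⁺₈(2)
-/

set_option autoImplicit false
set_option maxRecDepth 100000
set_option maxHeartbeats 1000000
set_option linter.style.haveILetI false

namespace CfsgLib.Co1Cent

open Cfsg CfsgLib CfsgLib.Golay MulAction
open scoped Pointwise
open CfsgLib.OmegaEight (Idx q2)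

attribute [local irreducible] CfsgLib.Leech.shortVecs CfsgLib.Leech.halfTable CfsgLib.Leech.quarterTable

/-- The space of plus type. -/
abbrev OPlus : Type := ↥(Quad.oGroup (Quad.plusQ (F := ZMod 2) 4))

/-! ### The action modulo two -/

/-- The map induced on the reduction. -/
noncomputable def redMap (g : c0) (a : Idx → ZMod 2) : Idx → ZMod 2 :=
  red (((g : Co0) • lift a : leechLattice) : GolayPt → ℤ)

theorem red_smul (g : c0) {v : leechLattice} (hv : v ∈ minusPart) :
    red (((g : Co0) • v : leechLattice) : GolayPt → ℤ) = redMap g (red (v : GolayPt → ℤ)) := by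
  obtain ⟨u, hu, he⟩ := exists_lift hv
  conv_lhs => rw [he]
  rw [Leech.smul_add', Leech.smul_add', red_add (smul_mem_minusPart g.2 (lift_mem _))
    (add_mem (smul_mem_minusPart g.2 hu) (smul_mem_minusPart g.2 hu)),
    red_double (smul_mem_minusPart g.2 hu), add_zero]
  rfl

theorem redMap_add (g : c0) (a b : Idx → ZMod 2) : redMap g (a + b) = redMap g a + redMap g b := by
  have h : red ((lift a + lift b : leechLattice) : GolayPt → ℤ) = a + b := by
    rw [red_add (lift_mem a) (lift_mem b), red_lift, red_lift]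
  rw [← h, ← red_smul g (add_mem (lift_mem a) (lift_mem b)), Leech.smul_add',
    red_add (smul_mem_minusPart g.2 (lift_mem a)) (smul_mem_minusPart g.2 (lift_mem b))]
  rfl

theorem redMap_mul (g h : c0) (a : Idx → ZMod 2) : redMap (g * h) a = redMap g (redMap h a) := by
  show red (((g : Co0) * (h : Co0)) • lift a : leechLattice).1 = _
  rw [mul_smul, red_smul g (smul_mem_minusPart h.2 (lift_mem a))]
  rfl

theorem redMap_one (a : Idx → ZMod 2) : redMap 1 a = a := by
  show red (((1 : Co0) • lift a : leechLattice) : GolayPt → ℤ) = a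
  rw [one_smul, red_lift]

theorem redMap_q2 (g : c0) (a : Idx → ZMod 2) : q2 (redMap g a) = q2 a := by
  rw [redMap, q2_red (smul_mem_minusPart g.2 (lift_mem a)), Leech.sqNorm_smul, ← q2_red (lift_mem a), red_lift]

/-- The induced linear equivalence. -/
noncomputable def redEquiv (g : c0) : (Idx → ZMod 2) ≃ₗ[ZMod 2] (Idx → ZMod 2) :=
  { (AddMonoidHom.mk' (redMap g) (redMap_add g)).toZModLinearMap 2 with
    invFun := redMap g⁻¹
    left_inv := fun a => by
      show redMap g⁻¹ (redMap g a) = a
      rw [← redMap_mul, inv_mul_cancel, redMap_one]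
    right_inv := fun a => by
      show redMap g (redMap g⁻¹ a) = a
      rw [← redMap_mul, mul_inv_cancel, redMap_one] }

/-- The reduction homomorphism. -/
noncomputable def rho : c0 →* OPlus where
  toFun g := ⟨redEquiv g, fun a => by
    show Quad.plusQ (F := ZMod 2) 4 (redMap g a) = Quad.plusQ (F := ZMod 2) 4 a
    rw [Quad.plusQ_coe]
    exact redMap_q2 g a⟩
  map_one' := Subtype.ext (LinearEquiv.ext redMap_one)
  map_mul' g h := Subtype.ext (LinearEquiv.ext (redMap_mul g h))

theorem rho_eq_one_iff (g : c0) : rho g = 1 ↔ ∀ a, redMap g a = a := by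
  constructor
  · intro h a
    exact congrArg (fun e : OPlus => e.1 a) h
  · intro h
    exact Subtype.ext (LinearEquiv.ext h)

theorem dot_self (v : GolayPt → ℤ) : dotInt v v = sqNorm v := by simp [dotInt, sqNorm, pow_two]

theorem root_fix_or_neg {g : c0} (h : rho g = 1) (k : Fin 8) :
    (g : Co0) • bB k = bB k ∨ (g : Co0) • bB k = -bB k := by
  generalize hv : bB k = v
  have hvm : v ∈ minusPart := hv ▸ bB_mem k
  have hgm := smul_mem_minusPart g.2 hvm
  have hred : red (((g : Co0) • v : leechLattice) : GolayPt → ℤ) = red (v : GolayPt → ℤ) := by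
    rw [red_smul g hvm, (rho_eq_one_iff g).1 h]
  obtain ⟨u, hu, he⟩ := exists_lift hvm
  obtain ⟨u', hu', he'⟩ := exists_lift hgm
  rw [hred] at he'
  generalize hd : u' - u = d
  have hgv : (g : Co0) • v = v + (d + d) := by
    rw [he', ← hd]
    conv_rhs => arg 1; rw [he]
    abel
  have hn : sqNorm (((g : Co0) • v : leechLattice) : GolayPt → ℤ) = 32 :=
    (Leech.sqNorm_smul _ _).trans (hv ▸ sqNorm_bB k)
  have hN : sqNorm (v : GolayPt → ℤ) = 32 := hv ▸ sqNorm_bB k
  rw [hgv, AddSubgroup.coe_add, AddSubgroup.coe_add, sqNorm_add, sqNorm_add, dot_self,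
    show dotInt (v : GolayPt → ℤ) ((d : GolayPt → ℤ) + (d : GolayPt → ℤ)) =
      2 * dotInt (v : GolayPt → ℤ) (d : GolayPt → ℤ) by simp [dotInt, mul_add, Finset.sum_add_distrib]; ring] at hn
  have hsum : sqNorm ((v + d : leechLattice) : GolayPt → ℤ) = 32 - sqNorm (d : GolayPt → ℤ) := by
    rw [AddSubgroup.coe_add, sqNorm_add]; omega
  by_cases hd0 : (d : GolayPt → ℤ) = 0
  · left
    rw [hgv, show d = 0 from Subtype.ext hd0, add_zero, add_zero]
  · right
    have h1 := Leech.sqNorm_ge d.2 hd0
    have h2 : (0 : ℤ) ≤ sqNorm ((v + d : leechLattice) : GolayPt → ℤ) := Finset.sum_nonneg fun p _ => sq_nonneg _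
    have h3 : ((v + d : leechLattice) : GolayPt → ℤ) = 0 := by
      by_contra h4
      have := Leech.sqNorm_ge (v + d).2 h4
      omega
    have : d = -v := eq_neg_of_add_eq_zero_right (Subtype.ext h3)
    rw [hgv, this]; abel

theorem linked_check : ∀ e ∈ ([(0, 2), (2, 3), (1, 3), (3, 4), (4, 5), (5, 6), (6, 7)] : List (Fin 8 × Fin 8)),
    dotInt (ofO (rootsB.getD e.1.val [])) (ofO (rootsB.getD e.2.val [])) ≠ 0 := by decide +kernel

theorem fix_all {g : Co0} (h : ∀ k, g • bB k = bB k) {v : leechLattice} (hv : v ∈ minusPart) : g • v = v := by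
  rw [expand hv, Leech.smul_sum']
  exact Finset.sum_congr rfl fun k _ => by rw [Leech.smul_zsmul', h]

theorem octFlip_mem_c0 : octFlip ∈ c0 := signAut_mem_c0 _

theorem octFlip_not_qp : octFlip ∉ qp := by
  intro h
  have h1 := h.2 _ eightAt_mem
  rw [(mem_minusPart_iff _).1 eightAt_mem] at h1
  have := congrFun (congrArg Subtype.val h1) none
  simp [Leech.eightAt_apply] at this

theorem negAut_not_qp : Leech.negAut ∉ qp := by
  intro h
  have h1 := h.2 _ eightAt_mem
  rw [Leech.negAut_smul] at h1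
  have := congrFun (congrArg Subtype.val h1) none
  simp [Leech.eightAt_apply] at this

theorem ker_rho_iff (g : c0) : g ∈ rho.ker ↔ (g : Co0) ∈ qp ∨ octFlip * (g : Co0) ∈ qp := by
  rw [MonoidHom.mem_ker]
  constructor
  · intro h
    have hsign : ∀ e ∈ ([(0, 2), (2, 3), (1, 3), (3, 4), (4, 5), (5, 6), (6, 7)] : List (Fin 8 × Fin 8)),
        ((g : Co0) • bB e.1 = bB e.1 ↔ (g : Co0) • bB e.2 = bB e.2) := by
      intro e he
      have hne : dotInt (bB e.1 : GolayPt → ℤ) (bB e.2 : GolayPt → ℤ) ≠ 0 := linked_check e he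
      have hdot := Leech.dot_smul' (g : Co0) (bB e.1) (bB e.2)
      rcases root_fix_or_neg h e.1 with h1 | h1 <;> rcases root_fix_or_neg h e.2 with h2 | h2
      · exact iff_of_true h1 h2
      · exfalso; rw [h1, h2] at hdot
        simp [dotInt] at hdot hne; omega
      · exfalso; rw [h1, h2] at hdot
        simp [dotInt] at hdot hne; omega
      · have hne1 : ∀ k, ¬ ((-bB k : leechLattice) = bB k) := fun k e' => by
          have h32 := sqNorm_bB k
          have : (bB k : GolayPt → ℤ) = 0 := funext fun p => by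
            have := congrFun (congrArg Subtype.val e') p
            change -(bB k : GolayPt → ℤ) p = (bB k : GolayPt → ℤ) p at this
            show (bB k : GolayPt → ℤ) p = 0
            omega
          rw [this] at h32
          simp [sqNorm] at h32
        rw [h1, h2]
        exact iff_of_false (hne1 _) (hne1 _)
    simp only [List.forall_mem_cons, List.forall_mem_nil, List.not_mem_nil, IsEmpty.forall_iff, implies_true,
      and_true] at hsign
    obtain ⟨e02, e23, e13, e34, e45, e56, e67⟩ := hsign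
    have hall : ∀ k, ((g : Co0) • bB k = bB k ↔ (g : Co0) • bB 3 = bB 3) := by
      intro k
      fin_cases k
      exacts [e02.trans e23, e13, e23, Iff.rfl, e34.symm, e45.symm.trans e34.symm,
        e56.symm.trans (e45.symm.trans e34.symm), e67.symm.trans (e56.symm.trans (e45.symm.trans e34.symm))]
    by_cases h3 : (g : Co0) • bB 3 = bB 3
    · exact Or.inl ⟨g.2, fun v hv => fix_all (fun k => (hall k).2 h3) hv⟩
    · refine Or.inr ⟨mul_mem octFlip_mem_c0 g.2, fun v hv => fix_all (fun k => ?_) hv⟩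
      have hk := (root_fix_or_neg h k).resolve_left fun e => h3 ((hall k).1 e)
      rw [mul_smul, hk, Leech.smul_neg', (mem_minusPart_iff _).1 (bB_mem k), neg_neg]
  · intro h
    rw [rho_eq_one_iff]
    intro a
    rcases h with h | h
    · rw [redMap, h.2 _ (lift_mem a), red_lift]
    · have h1 := h.2 _ (lift_mem a)
      rw [mul_smul, (mem_minusPart_iff _).1 (smul_mem_minusPart g.2 (lift_mem a)), neg_eq_iff_eq_neg] at h1
      rw [redMap, h1]
      have h2 : red ((lift a + -lift a : leechLattice) : GolayPt → ℤ) = 0 := by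
        rw [add_neg_cancel]
        show redK _ = 0
        simp [redK, kc, dotInt]
      rw [red_add (lift_mem a) (neg_mem (lift_mem a)), red_lift, CharTwo.add_eq_zero] at h2
      exact h2.symm

theorem card_ker : Nat.card rho.ker = 1024 := by
  have hq : ∀ q : qp, (q : Co0) ∈ c0 := fun q => q.2.1
  have hcomm : ∀ x ∈ c0, octFlip * (octFlip * x) = x := fun x _ => by
    rw [← mul_assoc, octFlip, Leech.signAut_mul, add_self_code, Leech.signAut_zero, one_mul]
  let f : qp ⊕ qp → rho.ker := Sum.elim
    (fun q => ⟨⟨q, hq q⟩, (ker_rho_iff _).2 (Or.inl q.2)⟩)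
    (fun q => ⟨⟨octFlip * q, mul_mem octFlip_mem_c0 (hq q)⟩, (ker_rho_iff _).2 (Or.inr (by
      show octFlip * (octFlip * (q : Co0)) ∈ qp
      rw [hcomm _ (hq q)]; exact q.2))⟩)
  have hf : Function.Bijective f := by
    constructor
    · rintro (a | a) (b | b) h
      · exact congrArg Sum.inl (Subtype.ext (congrArg (fun x : rho.ker => ((x : c0) : Co0)) h))
      · exact absurd (show octFlip ∈ qp from by
          have h' : (a : Co0) = octFlip * b := congrArg (fun x : rho.ker => ((x : c0) : Co0)) h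
          have := mul_mem a.2 (inv_mem b.2)
          rwa [h', mul_inv_cancel_right] at this) octFlip_not_qp
      · exact absurd (show octFlip ∈ qp from by
          have h' : octFlip * a = (b : Co0) := congrArg (fun x : rho.ker => ((x : c0) : Co0)) h
          have := mul_mem b.2 (inv_mem a.2)
          rwa [← h', mul_inv_cancel_right] at this) octFlip_not_qp
      · exact congrArg Sum.inr (Subtype.ext (mul_left_cancel
          (congrArg (fun x : rho.ker => ((x : c0) : Co0)) h)))
    · rintro ⟨g, hg⟩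
      rcases (ker_rho_iff g).1 hg with h | h
      · exact ⟨Sum.inl ⟨_, h⟩, rfl⟩
      · exact ⟨Sum.inr ⟨_, h⟩, Subtype.ext (Subtype.ext (hcomm _ g.2))⟩
  haveI : Finite qp := Nat.finite_of_card_ne_zero (by rw [card_qp]; norm_num)
  rw [← Nat.card_congr (Equiv.ofBijective f hf), Nat.card_sum, card_qp]

theorem two_cases : ∀ x : ZMod 2, x = 0 ∨ x = 1 := by decide

theorem range_rho : rho.range = commutator OPlus := by
  have hcomm := OmegaEight.card_omega (F := ZMod 2) two_cases
  have hidx : (commutator OPlus).index = 2 :=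
    Quad.index_commutator_char_two (Quad.plusQ_nondeg 4) (by simp) (Or.inr (by simp))
  have hO : Nat.card OPlus = 348364800 := by
    rw [← (commutator OPlus).card_mul_index, hidx, hcomm]
  haveI : Finite OPlus := Nat.finite_of_card_ne_zero (by rw [hO]; norm_num)
  have hr : Nat.card rho.range = 174182400 := by
    have h := rho.ker.card_mul_index
    rw [Subgroup.index_ker, card_ker, card_c0] at h
    omega
  have h2 : rho.range.index = 2 := by
    have h := rho.range.card_mul_index
    rw [hr, hO] at h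
    omega
  refine (Subgroup.eq_of_le_of_card_ge ?_ (by rw [hr, hcomm])).symm
  rw [commutator_def, Subgroup.commutator_le]
  intro a _ b _
  rw [commutatorElement_def, Subgroup.mul_mem_iff_of_index_two h2, Subgroup.mul_mem_iff_of_index_two h2,
    Subgroup.mul_mem_iff_of_index_two h2, inv_mem_iff, inv_mem_iff]
  tauto

/-! ### The centraliser in the quotient -/

/-- The quotient map. -/
noncomputable def mk1 : Co0 →* Spor.Co1 := QuotientGroup.mk' (Subgroup.center Co0)

theorem mk1_eq_one {g : Co0} : mk1 g = 1 ↔ g = 1 ∨ g = Leech.negAut := by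
  rw [mk1, QuotientGroup.mk'_apply, QuotientGroup.eq_one_iff, ← SetLike.mem_coe, Leech.center_eq]
  rfl

/-- The involution. -/
noncomputable def zC : Spor.Co1 := mk1 octFlip

theorem sum_col (g : Co0) (i : GolayPt) :
    ∑ q, ((g • Leech.eightAt q : leechLattice) : GolayPt → ℤ) i ^ 2 = 64 := by
  have hd : ∀ (x : GolayPt → ℤ) (q : GolayPt), dotInt x (Leech.eightAt q : GolayPt → ℤ) = 8 * x q := fun x q => by
    simp [dotInt, Leech.eightAt_apply, mul_comm]
  have he : ∀ q, ((g • Leech.eightAt q : leechLattice) : GolayPt → ℤ) i =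
      ((g⁻¹ • Leech.eightAt i : leechLattice) : GolayPt → ℤ) q := fun q => by
    have h := Leech.dot_smul' g (g⁻¹ • Leech.eightAt i) (Leech.eightAt q)
    rw [smul_inv_smul, hd] at h
    rw [show dotInt (Leech.eightAt i : GolayPt → ℤ) ((g • Leech.eightAt q : leechLattice) : GolayPt → ℤ) =
      8 * ((g • Leech.eightAt q : leechLattice) : GolayPt → ℤ) i by simp [dotInt, Leech.eightAt_apply]] at h
    omega
  simp only [he]
  exact (Leech.sqNorm_smul g⁻¹ (Leech.eightAt i)).trans (Leech.sqNorm_eightAt i)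

theorem not_anti (g : Co0) : g * octFlip ≠ Leech.negAut * (octFlip * g) := by
  intro h
  have hz : ∀ p, p ∉ oct → ∀ i, i ∉ oct → ((g • Leech.eightAt p : leechLattice) : GolayPt → ℤ) i = 0 := by
    intro p hp
    refine fun i hi => ?_
    have hfix : octFlip • Leech.eightAt p = Leech.eightAt p := by
      refine Subtype.ext (funext fun q => ?_)
      rw [octFlip, Leech.signAut_apply]
      simp only [Leech.flipSign, octWord_apply, Leech.eightAt_apply]
      by_cases hq : q = p
      · subst hq; simp [hp]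
      · simp [hq]
    have hm : g • Leech.eightAt p ∈ minusPart := by
      rw [mem_minusPart_iff]
      have h1 := congrArg (fun k : Co0 => k • Leech.eightAt p) h
      simp only [mul_smul, hfix, Leech.negAut_smul] at h1
      rw [← neg_inj, neg_neg]
      exact h1.symm
    exact hm i hi
  have h1 : ∑ p ∈ octᶜ, ∑ i, ((g • Leech.eightAt p : leechLattice) : GolayPt → ℤ) i ^ 2 = 16 * 64 := by
    rw [Finset.sum_congr rfl fun p _ => (show ∑ i, ((g • Leech.eightAt p : leechLattice) : GolayPt → ℤ) i ^ 2 = 64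
      from (Leech.sqNorm_smul g _).trans (Leech.sqNorm_eightAt p)), Finset.sum_const, Finset.card_compl,
      card_golayPt, octad_card oct_mem]
    norm_num
  have h2 : ∑ p ∈ octᶜ, ∑ i, ((g • Leech.eightAt p : leechLattice) : GolayPt → ℤ) i ^ 2 ≤ 8 * 64 := by
    rw [Finset.sum_comm, ← Finset.sum_subset (Finset.subset_univ oct) fun i _ hi =>
      Finset.sum_eq_zero fun p hp => by rw [hz p (Finset.mem_compl.1 hp) i hi]; rfl]
    refine le_trans (Finset.sum_le_sum fun i _ => le_trans
      (Finset.sum_le_sum_of_subset_of_nonneg (Finset.subset_univ _) fun q _ _ => sq_nonneg _) (sum_col g i).le) ?_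
    rw [Finset.sum_const, octad_card oct_mem]
    norm_num
  omega

/-- The centraliser in the quotient. -/
abbrev c1 : Subgroup Spor.Co1 := Subgroup.centralizer ({zC} : Set Spor.Co1)

theorem mk1_mem_c1 (g : c0) : mk1 (g : Co0) ∈ c1 := by
  rw [Subgroup.mem_centralizer_singleton_iff, zC, ← map_mul, mem_c0.1 g.2, map_mul]

/-- The map between the centralisers. -/
noncomputable def proj : c0 →* c1 := (mk1.comp c0.subtype).codRestrict c1 mk1_mem_c1

theorem proj_surjective : Function.Surjective proj := by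
  rintro ⟨x, hx⟩
  obtain ⟨g, rfl⟩ := QuotientGroup.mk'_surjective (Subgroup.center Co0) x
  have h : mk1 ((octFlip * g)⁻¹ * (g * octFlip)) = 1 := by
    rw [map_mul, map_inv, inv_mul_eq_one, map_mul, map_mul]
    exact (Subgroup.mem_centralizer_singleton_iff.1 hx).symm
  rcases mk1_eq_one.1 h with h1 | h1
  · refine ⟨⟨g, mem_c0.2 ?_⟩, rfl⟩
    exact (inv_mul_eq_one.1 h1).symm
  · exfalso
    refine not_anti g ?_
    rw [inv_mul_eq_iff_eq_mul] at h1
    rw [h1]
    exact Subgroup.mem_center_iff.1 Leech.negAut_central _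

theorem negAut_mem_c0 : Leech.negAut ∈ c0 := mem_c0.2 (Subgroup.mem_center_iff.1 Leech.negAut_central _).symm

theorem ker_proj_le : proj.ker ≤ rho.ker := by
  intro g hg
  have h : mk1 (g : Co0) = 1 := congrArg Subtype.val hg
  rw [ker_rho_iff]
  rcases mk1_eq_one.1 h with h1 | h1
  · exact Or.inl (h1 ▸ one_mem qp)
  · refine Or.inr ?_
    rw [h1, ← zz_eq]
    exact zz_mem

/-- The map to the orthogonal group. -/
noncomputable def rhoC : c1 →* rho.range :=
  proj.liftOfSurjective proj_surjective ⟨rho.rangeRestrict, by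
    rw [MonoidHom.ker_rangeRestrict]; exact ker_proj_le⟩

theorem rhoC_proj (g : c0) : rhoC (proj g) = rho.rangeRestrict g :=
  MonoidHom.liftOfRightInverse_comp_apply _ _ _ _ g

/-- The normal subgroup. -/
noncomputable abbrev qC : Subgroup c1 := rhoC.ker

theorem mem_qC (x : c1) : x ∈ qC ↔ ∃ q, ∃ hq : q ∈ qp, proj ⟨q, hq.1⟩ = x := by
  constructor
  · intro hx
    obtain ⟨g, rfl⟩ := proj_surjective x
    rw [MonoidHom.mem_ker, rhoC_proj, ← MonoidHom.mem_ker, MonoidHom.ker_rangeRestrict, ker_rho_iff] at hx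
    rcases hx with h | h
    · exact ⟨_, h, rfl⟩
    · refine ⟨zz * (octFlip * g), mul_mem zz_mem h, Subtype.ext ?_⟩
      show mk1 (zz * (octFlip * (g : Co0))) = mk1 (g : Co0)
      rw [zz_eq, show octFlip * Leech.negAut * (octFlip * (g : Co0)) = octFlip * (Leech.negAut * octFlip) * g by group,
        ← Subgroup.mem_center_iff.1 Leech.negAut_central octFlip,
        show octFlip * (octFlip * Leech.negAut) * (g : Co0) = (octFlip * octFlip) * Leech.negAut * g by group,
        octFlip, Leech.signAut_mul, add_self_code, Leech.signAut_zero, one_mul, map_mul,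
        mk1_eq_one.2 (Or.inr rfl), one_mul]
  · rintro ⟨q, hq, rfl⟩
    rw [MonoidHom.mem_ker, rhoC_proj, ← MonoidHom.mem_ker, MonoidHom.ker_rangeRestrict, ker_rho_iff]
    exact Or.inl hq

theorem mk1_inj_qp {a b : Co0} (ha : a ∈ qp) (hb : b ∈ qp) (h : mk1 a = mk1 b) : a = b := by
  have h1 : mk1 (a⁻¹ * b) = 1 := by rw [map_mul, map_inv, h, inv_mul_cancel]
  rcases mk1_eq_one.1 h1 with h2 | h2
  · exact inv_mul_eq_one.1 h2
  · exact absurd (h2 ▸ mul_mem (inv_mem ha) hb) negAut_not_qp

/-- The kernel maps isomorphically. -/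
noncomputable def qEquiv : qp ≃* qC :=
  MulEquiv.ofBijective
    ((proj.comp (Subgroup.inclusion (show qp ≤ c0 from fun _ h => h.1))).codRestrict qC fun q =>
      (mem_qC _).2 ⟨q, q.2, rfl⟩) <| by
    constructor
    · intro a b h
      exact Subtype.ext (mk1_inj_qp a.2 b.2 (congrArg (fun x : qC => ((x : c1) : Spor.Co1)) h))
    · rintro ⟨x, hx⟩
      obtain ⟨q, hq, rfl⟩ := (mem_qC x).1 hx
      exact ⟨⟨q, hq⟩, rfl⟩

theorem finite_qp : Finite qp := Nat.finite_of_card_ne_zero (by rw [card_qp]; norm_num)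

theorem zz_central {g : Co0} (hg : g ∈ c0) : g * zz = zz * g := by
  rw [zz_eq, ← mul_assoc, mem_c0.1 hg, mul_assoc, Subgroup.mem_center_iff.1 Leech.negAut_central g, mul_assoc]

theorem extraspecial_qp : Cfsg.IsExtraspecial 2 qp := by
  haveI := finite_qp
  have hzc : (⟨zz, zz_mem⟩ : qp) ∈ Subgroup.center qp :=
    Subgroup.mem_center_iff.2 fun g => Subtype.ext (zz_central g.2.1)
  have hzz1 : zz ≠ 1 := fun h => by
    have hv : ((zz • Leech.eightAt (pt 4) : leechLattice) : GolayPt → ℤ) (pt 4) = -8 := by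
      rw [zz, Leech.signAut_apply]
      simp [Leech.flipSign, coWord_apply, outside_exists, Leech.eightAt_apply]
    rw [h, one_smul, Leech.eightAt_apply, if_pos rfl] at hv
    omega
  have hcenter : ∀ x : qp, x ∈ Subgroup.center qp → x = 1 ∨ x = ⟨zz, zz_mem⟩ := by
    intro x hx
    rcases cent_qp (g := (x : Co0)) (fun q hq => (congrArg Subtype.val (Subgroup.mem_center_iff.1 hx ⟨q, hq⟩)).symm)
      with h | h | h | h
    · exact Or.inl (Subtype.ext h)
    · exact absurd (h ▸ x.2) octFlip_not_qp
    · exact absurd (h ▸ x.2) negAut_not_qp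
    · exact Or.inr (Subtype.ext h)
  have hc2 : Nat.card (Subgroup.center qp) = 2 := by
    rw [Nat.card_eq_two_iff]
    refine ⟨1, ⟨_, hzc⟩, fun h => hzz1 (congrArg (fun y : Subgroup.center qp => ((y : qp) : Co0)) h).symm, ?_⟩
    refine Set.eq_univ_iff_forall.2 fun y => ?_
    rcases hcenter y.1 y.2 with h | h
    · exact Or.inl (Subtype.ext h)
    · exact Or.inr (Subtype.ext h)
  refine CfsgLib.Monster.isExtraspecial_of (IsPGroup.of_card (n := 9) (by rw [card_qp]; norm_num)) hc2
    (fun a b => ?_) (fun a => ?_) ?_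
  · rcases comm_cases a.2 b.2 with h | h
    · rw [show a * b * a⁻¹ * b⁻¹ = 1 from Subtype.ext (by
        show (a : Co0) * b * (a : Co0)⁻¹ * (b : Co0)⁻¹ = 1
        rw [h]; group)]
      exact one_mem _
    · rw [show a * b * a⁻¹ * b⁻¹ = ⟨zz, zz_mem⟩ from Subtype.ext (by
        show (a : Co0) * b * (a : Co0)⁻¹ * (b : Co0)⁻¹ = zz
        rw [h]; group)]
      exact hzc
  · rcases sq_cases a.2 with h | h
    · rw [show a * a = 1 from Subtype.ext h]; exact one_mem _
    · rw [show a * a = ⟨zz, zz_mem⟩ from Subtype.ext h]; exact hzc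
  · by_contra hab
    push Not at hab
    have htop : Subgroup.center qp = ⊤ := eq_top_iff.2 fun x _ => Subgroup.mem_center_iff.2 fun y => hab y x
    rw [htop, Subgroup.card_top, card_qp] at hc2
    omega

theorem center_trivial : Subgroup.center ↥(commutator OPlus) = ⊥ :=
  Subgroup.eq_bot_of_card_eq _
    (Quad.card_center_omega_one (Quad.plusQ_nondeg 4) (by simp) (Or.inl (by decide)))

theorem simple_omega : IsSimpleGroup ↥(commutator OPlus) := by
  haveI := Quad.isSimpleGroup_omega (Quad.plusQ_nondeg (F := ZMod 2) 4) (by simp)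
  exact ((QuotientGroup.quotientMulEquivOfEq center_trivial).trans QuotientGroup.quotientBot).symm.isSimpleGroup

/-- The quotient by the normal subgroup. -/
noncomputable def quotEquiv : c1 ⧸ qC ≃* ↥(commutator OPlus) :=
  (QuotientGroup.quotientKerEquivOfSurjective rhoC (fun y => by
    obtain ⟨g, hg⟩ := rho.rangeRestrict_surjective y
    exact ⟨proj g, (rhoC_proj g).trans hg⟩)).trans
    (MulEquiv.subgroupCongr range_rho)

theorem finite_c1 : Finite c1 := by
  haveI : Finite c0 := Nat.finite_of_card_ne_zero (by rw [card_c0]; norm_num)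
  exact Finite.of_surjective _ proj_surjective

theorem fstar : Cfsg.generalizedFittingSubgroup c1 = qC := by
  haveI := finite_c1
  haveI : Fact (Nat.Prime 2) := ⟨Nat.prime_two⟩
  haveI := finite_qp
  have hQp : IsPGroup 2 qC := (IsPGroup.of_card (n := 9) (by rw [card_qp]; norm_num)).of_equiv qEquiv
  have hle : qC ≤ Cfsg.pCore 2 c1 := Solvable.le_pCore (p := 2) inferInstance hQp
  have hcent : Subgroup.centralizer (qC : Set c1) ≤ qC := by
    intro x hx
    obtain ⟨g, rfl⟩ := proj_surjective x
    have hcomm : ∀ q ∈ qp, (g : Co0) * q = q * (g : Co0) := by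
      intro q hq
      have h := congrArg Subtype.val (Subgroup.mem_centralizer_iff.1 hx _ ((mem_qC _).2 ⟨q, hq, rfl⟩))
      change mk1 q * mk1 (g : Co0) = mk1 (g : Co0) * mk1 q at h
      have hn : (g : Co0) * q * (g : Co0)⁻¹ ∈ qp := by
        refine ⟨mul_mem (mul_mem g.2 hq.1) (inv_mem g.2), fun v hv => ?_⟩
        rw [mul_smul, mul_smul, hq.2 _ (smul_mem_minusPart (inv_mem g.2) hv), smul_inv_smul]
      have he := mk1_inj_qp hn hq (by
        rw [map_mul, map_mul, map_inv, ← h, mul_inv_cancel_right])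
      exact mul_inv_eq_iff_eq_mul.1 he
    rw [mem_qC]
    rcases cent_qp hcomm with h | h | h | h
    · exact ⟨1, one_mem qp, Subtype.ext (by show mk1 1 = mk1 (g : Co0); rw [h])⟩
    · refine ⟨zz, zz_mem, Subtype.ext ?_⟩
      show mk1 zz = mk1 (g : Co0)
      rw [h, zz_eq, map_mul, mk1_eq_one.2 (Or.inr rfl), mul_one]
    · exact ⟨1, one_mem qp, Subtype.ext (by
        show mk1 1 = mk1 (g : Co0)
        rw [h, map_one, mk1_eq_one.2 (Or.inr rfl)])⟩
    · exact ⟨zz, zz_mem, Subtype.ext (by show mk1 zz = mk1 (g : Co0); rw [h])⟩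
  have hchar : CharP.HasCharP 2 c1 := fun x hx => hle (hcent (Subgroup.centralizer_le (show (qC : Set c1) ⊆ _ from hle) hx))
  rw [hchar.Fstar_eq]
  refine le_antisymm ?_ hle
  haveI := simple_omega
  haveI : IsSimpleGroup (c1 ⧸ qC) := quotEquiv.isSimpleGroup
  haveI : (Cfsg.pCore 2 c1).Normal := Solvable.pCore_normal 2
  rcases ((inferInstance : (Cfsg.pCore 2 c1).Normal).map (QuotientGroup.mk' qC)
    (QuotientGroup.mk'_surjective qC)).eq_bot_or_eq_top with h | h
  · intro x hx
    have : QuotientGroup.mk' qC x ∈ (Cfsg.pCore 2 c1).map (QuotientGroup.mk' qC) := Subgroup.mem_map_of_mem _ hx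
    rw [h, Subgroup.mem_bot, ← MonoidHom.mem_ker, QuotientGroup.ker_mk'] at this
    exact this
  · exfalso
    haveI : Finite ↥(commutator OPlus) := Nat.finite_of_card_ne_zero
      (by rw [OmegaEight.card_omega (F := ZMod 2) two_cases]; norm_num)
    have hp := (Solvable.isPGroup_pCore (G := c1) 2).map (QuotientGroup.mk' qC)
    rw [h] at hp
    obtain ⟨n, hn⟩ := IsPGroup.iff_card.1 (hp.of_equiv (Subgroup.topEquiv.trans quotEquiv))
    rw [OmegaEight.card_omega (F := ZMod 2) two_cases] at hn
    have h3 : 3 ∣ 2 ^ n := hn ▸ (by norm_num : 3 ∣ 174182400)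
    exact absurd ((Nat.prime_three.dvd_of_dvd_pow h3)) (by norm_num)

theorem orderOf_zC : orderOf zC = 2 := by
  refine orderOf_eq_prime (hp := ⟨Nat.prime_two⟩) ?_ fun h => ?_
  · rw [pow_two, zC, ← map_mul, octFlip, Leech.signAut_mul, add_self_code, Leech.signAut_zero, map_one]
  · rcases mk1_eq_one.1 h with h1 | h1
    · exact octFlip_not_qp (h1 ▸ one_mem qp)
    · have h8 := congrArg (fun k : Co0 => ((k • Leech.eightAt (pt 4) : leechLattice) : GolayPt → ℤ) (pt 4)) h1
      simp only [octFlip, Leech.signAut_apply, Leech.negAut_smul] at h8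
      simp [Leech.flipSign, octWord_apply, outside_exists, Leech.eightAt_apply] at h8

theorem weakly_closed_fails : ∃ g : Spor.Co1,
    (∃ hq : g * zC * g⁻¹ ∈ c1, (⟨g * zC * g⁻¹, hq⟩ : c1) ∈ qC) ∧ g * zC * g⁻¹ ≠ zC := by
  obtain ⟨o', ho', hd⟩ := Cert.exists_disjoint_octad oct_mem
  obtain ⟨p', hp'⟩ := Finset.card_pos.1 (show 0 < o'.card by rw [octad_card ho']; norm_num)
  obtain ⟨τ, -, hτ⟩ := Cert.exists_map_octad_one oct_mem ho' (iff_of_true none_mem_oct hp')
  set w : golayCode := shift τ octWord with hw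
  have hwp : ∀ p, (w : GolayPt → ZMod 2) p = if p ∈ o' then 1 else 0 := fun p => by
    show (octWord : GolayPt → ZMod 2) ((τ : Equiv.Perm GolayPt)⁻¹ p) = _
    rw [octWord_apply]
    have h := Cert.smul_mem_iff' τ (s := oct) (p := (τ : Equiv.Perm GolayPt)⁻¹ p)
    rw [hτ, show τ • (τ : Equiv.Perm GolayPt)⁻¹ p = p from Equiv.apply_symm_apply _ p] at h
    simp only [h]
  have hoff : Off w := fun p hp => by rw [hwp, if_neg (Finset.disjoint_left.1 hd hp)]
  have hconj : Leech.permHom τ * octFlip * (Leech.permHom τ)⁻¹ = Leech.signAut w := by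
    rw [octFlip, Leech.permHom_mul_signAut, mul_inv_cancel_right]; rfl
  have hval : mk1 (Leech.permHom τ) * zC * (mk1 (Leech.permHom τ))⁻¹ = mk1 (Leech.signAut w) := by
    rw [zC, ← map_mul, ← map_inv, ← map_mul, hconj]
  refine ⟨mk1 (Leech.permHom τ), ⟨hval ▸ mk1_mem_c1 ⟨_, signAut_mem_c0 w⟩, ?_⟩, ?_⟩
  · exact (mem_qC _).2 ⟨_, signAut_mem_qp hoff, Subtype.ext hval.symm⟩
  · rw [hval]
    intro h
    have h1 : mk1 (Leech.signAut (octWord + w)) = 1 := by
      rw [← Leech.signAut_mul, map_mul, h, zC, ← map_mul, octFlip, Leech.signAut_mul, add_self_code,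
        Leech.signAut_zero, map_one]
    rcases mk1_eq_one.1 h1 with h2 | h2
    · have e : Leech.monoAut (octWord + w, 1) = Leech.monoAut (0, 1) := by
        rw [← Leech.signAut_eq_monoAut, ← Leech.signAut_eq_monoAut, h2, Leech.signAut_zero]
      have := congrFun (congrArg Subtype.val (Prod.ext_iff.1 (Leech.monoAut_injective e)).1) none
      simp [octWord_apply, hwp, none_mem_oct, Finset.disjoint_left.1 hd none_mem_oct] at this
    · rw [← Leech.signAut_one] at h2
      have e : Leech.monoAut (octWord + w, 1) = Leech.monoAut (Leech.oneWord, 1) := by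
        rw [← Leech.signAut_eq_monoAut, ← Leech.signAut_eq_monoAut, h2]
      have hall := congrArg Subtype.val (Prod.ext_iff.1 (Leech.monoAut_injective e)).1
      have hsub : octᶜ ⊆ o' := fun p hp => by
        by_contra hp'
        have := congrFun hall p
        simp [octWord_apply, hwp, hp', Finset.mem_compl.1 hp, Leech.oneWord] at this
      have := Finset.card_le_card hsub
      rw [Finset.card_compl, card_golayPt, octad_card oct_mem, octad_card ho'] at this
      omega

theorem main : ∃ z : Spor.Co1, orderOf z = 2 ∧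
    ∃ (Q : Subgroup (Subgroup.centralizer ({z} : Set Spor.Co1))) (_ : Q.Normal),
      Cfsg.generalizedFittingSubgroup (Subgroup.centralizer ({z} : Set Spor.Co1)) = Q ∧
      Cfsg.IsExtraspecial 2 Q ∧ Nat.card Q = 2 ^ 9 ∧
      Nonempty ((Subgroup.centralizer ({z} : Set Spor.Co1)) ⧸ Q ≃* Cfsg.Omega (ZMod 2) (Cfsg.quadFormPlus 4 (ZMod 2))) ∧
      ∃ g : Spor.Co1, (∃ hq : g * z * g⁻¹ ∈ Subgroup.centralizer ({z} : Set Spor.Co1),
        (⟨g * z * g⁻¹, hq⟩ : Subgroup.centralizer ({z} : Set Spor.Co1)) ∈ Q) ∧ g * z * g⁻¹ ≠ z := by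
  haveI := finite_qp
  refine ⟨zC, orderOf_zC, qC, inferInstance, fstar, LargeExtra.isExtraspecial_equiv qEquiv extraspecial_qp, ?_, ?_,
    weakly_closed_fails⟩
  · rw [← Nat.card_congr qEquiv.toEquiv, card_qp]; norm_num
  · rw [← Quad.plusQ_coe]
    exact ⟨quotEquiv.trans (Quad.omegaEquiv _).symm⟩

end CfsgLib.Co1Cent
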