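import Cfsg.Agent.Co1Cent.Lattice
import Cfsg.Agent.Golay.MathieuFusion
import Cfsg.Agent.Golay.StabTools
import Cfsg.Agent.Golay.OctadStab

/-!
# The centraliser of the sign change on an octad

It is transitive on the 2160 vectors of the second shell of the sublattice, with monomial
stabiliser.
-/

set_option autoImplicit false
set_option maxRecDepth 100000
set_option maxHeartbeats 1000000
set_option linter.style.haveILetI false

namespace CfsgLib.Co1Cent

open Cfsg CfsgLib CfsgLib.Golay CfsgLib.Golay.SylowCert MulAction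
open scoped Pointwise

attribute [local irreducible] CfsgLib.Leech.shortVecs CfsgLib.Leech.halfTable CfsgLib.Leech.quarterTable

theorem oct_mem : oct ∈ octads := pts_baseOctad_mem

/-- The centraliser in the automorphism group of the lattice. -/
abbrev c0 : Subgroup Co0 := Subgroup.centralizer ({octFlip} : Set Co0)

theorem mem_c0 {g : Co0} : g ∈ c0 ↔ g * octFlip = octFlip * g := Subgroup.mem_centralizer_singleton_iff

theorem smul_mem_minusPart {g : Co0} (hg : g ∈ c0) {v : leechLattice} (hv : v ∈ minusPart) :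
    g • v ∈ minusPart := by
  rw [mem_minusPart_iff, ← mul_smul, ← mem_c0.1 hg, mul_smul, (mem_minusPart_iff v).1 hv, Leech.smul_neg']

theorem signAut_mem_c0 (w : golayCode) : Leech.signAut w ∈ c0 := by
  rw [mem_c0, octFlip, Leech.signAut_mul, Leech.signAut_mul, add_comm]

theorem permHom_mem_c0 {σ : M24} (h : ∀ p, (σ : Equiv.Perm GolayPt) p ∈ oct ↔ p ∈ oct) :
    Leech.permHom σ ∈ c0 := by
  rw [mem_c0, octFlip, Leech.permHom_mul_signAut]
  congr 2
  refine Subtype.ext (funext fun i => ?_)
  show (octWord : GolayPt → ZMod 2) ((σ : Equiv.Perm GolayPt)⁻¹ i) = (octWord : GolayPt → ZMod 2) i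
  rw [octWord_apply, octWord_apply]
  have := h ((σ : Equiv.Perm GolayPt)⁻¹ i)
  rw [show (σ : Equiv.Perm GolayPt) ((σ : Equiv.Perm GolayPt)⁻¹ i) = i from Equiv.apply_symm_apply _ i] at this
  simp only [this]

/-- A list preserving the code and the octad. -/
def InOct (L : List ℕ) : Prop :=
  Good L ∧ L.length = 24 ∧ PreservesCode L ∧ ∀ i < 24, L.getD i 0 ∈ oPos ↔ i ∈ oPos

instance (L : List ℕ) : Decidable (InOct L) := by unfold InOct PreservesCode; infer_instance

theorem exists_inOct {L : List ℕ} (h : InOct L) : ∃ σ : M24, toList (σ : Equiv.Perm GolayPt) = L ∧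
    ∀ p, (σ : Equiv.Perm GolayPt) p ∈ oct ↔ p ∈ oct := by
  obtain ⟨hg, hl, hp, ho⟩ := h
  refine ⟨⟨permL L, permL_mem_M24 hg hl hp⟩, toList_permL hg hl, fun p => ?_⟩
  rw [oPos_spec, oPos_spec, ← ho (idx p) (idx_lt p), ← toList_getD_idx, toList_permL hg hl]

theorem tet_oct : ∀ (a : Fin 6) (b : Fin 4), Leech.tetPt a b ∈ oct ↔ a.val < 2 := by decide +kernel

theorem xiAut_mem_c0 : Leech.xiAut ∈ c0 := by
  rw [mem_c0]
  refine Leech.ext_co0 fun v => Subtype.ext (funext fun p => ?_)
  rw [mul_smul, mul_smul, Leech.xiAut_apply, octFlip, Leech.signAut_apply, Leech.signAut_apply, Leech.xiAut_apply]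
  have hflip : ∀ (x : GolayPt → ℤ) (q : GolayPt), Leech.flipSign (octWord : GolayPt → ZMod 2) x q =
      if q ∈ oct then -x q else x q := fun x q => by
    simp only [Leech.flipSign, octWord_apply]
    split_ifs <;> simp_all
  rw [hflip]
  simp only [Leech.xi]
  set a := Leech.tetOf p with ha
  have hp : p ∈ oct ↔ a.val < 2 := by rw [← tet_oct a (Leech.posOf p), ha, Leech.tetPt_tetOf]
  have hsum : Leech.tetSum (Leech.flipSign (octWord : GolayPt → ZMod 2) (v : GolayPt → ℤ)) a =
      if p ∈ oct then -Leech.tetSum (v : GolayPt → ℤ) a else Leech.tetSum (v : GolayPt → ℤ) a := by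
    unfold Leech.tetSum
    by_cases h : p ∈ oct
    · rw [if_pos h, ← Finset.sum_neg_distrib]
      exact Finset.sum_congr rfl fun b _ => by rw [hflip, if_pos ((tet_oct a b).2 (hp.1 h))]
    · rw [if_neg h]
      exact Finset.sum_congr rfl fun b _ => by rw [hflip, if_neg fun hb => h (hp.2 ((tet_oct a b).1 hb))]
  rw [hsum, hflip]
  obtain ⟨k, hk⟩ := Leech.tetSum_even v.2 a
  by_cases h : p ∈ oct
  · simp only [if_pos h, hk]
    rw [show -(2 * k) = 2 * -k by ring, Int.mul_ediv_cancel_left _ two_ne_zero, Int.mul_ediv_cancel_left _ two_ne_zero]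
    ring
  · simp only [if_neg h]

/-- The generators as maps of vectors. -/
def opFun (k : ℕ) (x : GolayPt → ℤ) (p : GolayPt) : ℤ :=
  if k < 2 then x (pt ((invL (permGens.getD k [])).getD (idx p) 0))
  else if k < 4 then
    if (word (signGens.getD (k - 2) 0)).testBit (idx p) then -x p else x p
  else Leech.xi x p

/-- The generators on coordinate lists. -/
def opL (k : ℕ) (l : List ℤ) : List ℤ := oPos.map fun i => opFun k (ofO l) (pt i)

/-- Coordinates on the octad. -/
def toO (x : GolayPt → ℤ) : List ℤ := oPos.map fun i => x (pt i)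

theorem ofO_toO {v : leechLattice} (hv : v ∈ minusPart) : ofO (toO (v : GolayPt → ℤ)) = (v : GolayPt → ℤ) := by
  funext p
  by_cases hp : p ∈ oct
  · rw [ofO, if_pos hp]
    have hmem := (oPos_spec p).1 hp
    have hlt : oPos.idxOf (idx p) < oPos.length := List.idxOf_lt_length_iff.2 hmem
    rw [List.getD_eq_getElem _ _ (by simpa [toO] using hlt)]
    simp only [toO, List.getElem_map, List.getElem_idxOf hlt, pt_idx]
  · rw [ofO, if_neg hp, hv p hp]

theorem toO_injOn {v w : leechLattice} (hv : v ∈ minusPart) (hw : w ∈ minusPart)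
    (h : toO (v : GolayPt → ℤ) = toO (w : GolayPt → ℤ)) : v = w :=
  Subtype.ext (by rw [← ofO_toO hv, h, ofO_toO hw])

theorem permGens_ok : ∀ k < 2, InOct (permGens.getD k []) := by decide +kernel

theorem exists_op (k : ℕ) (hk : k < 5) : ∃ g ∈ c0, ∀ v ∈ minusPart,
    toO ((g • v : leechLattice) : GolayPt → ℤ) = opL k (toO (v : GolayPt → ℤ)) := by
  suffices h : ∃ g ∈ c0, ∀ v : leechLattice, ((g • v : leechLattice) : GolayPt → ℤ) = opFun k v by
    obtain ⟨g, hg, he⟩ := h
    exact ⟨g, hg, fun v hv => by rw [he, opL, ofO_toO hv]; rfl⟩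
  by_cases h2 : k < 2
  · obtain ⟨σ, hσ, hs⟩ := exists_inOct (permGens_ok k h2)
    refine ⟨Leech.permHom σ, permHom_mem_c0 hs, fun v => funext fun p => ?_⟩
    rw [Leech.permHom_apply, opFun, if_pos h2]
    have hi : (invL (permGens.getD k [])).getD (idx p) 0 = idx ((σ : Equiv.Perm GolayPt)⁻¹ p) := by
      rw [← hσ, ← toList_inv, toList_getD_idx]
    rw [hi, pt_idx]
  by_cases h4 : k < 4
  · refine ⟨Leech.signAut ⟨_, vec_word_mem (signGens.getD (k - 2) 0)⟩, signAut_mem_c0 _, fun v => funext fun p => ?_⟩
    rw [Leech.signAut_apply, opFun, if_neg h2, if_pos h4]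
    simp only [Leech.flipSign, vec]
    by_cases hb : (word (signGens.getD (k - 2) 0)).testBit (idx p) = true
    · simp [hb]
    · simp [hb]
  · refine ⟨Leech.xiAut, xiAut_mem_c0, fun v => funext fun p => ?_⟩
    rw [Leech.xiAut_apply, opFun, if_neg h2, if_neg h4]

/-- The base vector. -/
def baseL : List ℤ := [0, 0, 0, 0, 0, 0, 0, 8]

/-- Apply a word. -/
def reachL : List ℕ → List ℤ
  | [] => baseL
  | k :: w => opL k (reachL w)

theorem eightAt_mem : Leech.eightAt none ∈ minusPart := fun p hp => by
  rw [Leech.eightAt_apply, if_neg]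
  exact fun e => hp (e ▸ none_mem_oct)

theorem toO_eightAt : toO (Leech.eightAt none : GolayPt → ℤ) = baseL := by
  simp only [toO, oPos, baseL, List.map_cons, List.map_nil, Leech.eightAt_apply]
  decide +kernel

theorem exists_word : ∀ w : List ℕ, (∀ k ∈ w, k < 5) → ∃ g ∈ c0,
    toO ((g • Leech.eightAt none : leechLattice) : GolayPt → ℤ) = reachL w
  | [], _ => ⟨1, one_mem _, by rw [one_smul, toO_eightAt]; rfl⟩
  | k :: w, hw => by
    obtain ⟨g, hg, he⟩ := exists_word w fun j hj => hw j (List.mem_cons_of_mem _ hj)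
    obtain ⟨a, ha, hae⟩ := exists_op k (hw k List.mem_cons_self)
    exact ⟨a * g, mul_mem ha hg, by rw [mul_smul, hae _ (smul_mem_minusPart hg eightAt_mem), he]; rfl⟩

/-- A code of a coordinate list. -/
def codeO : List ℤ → ℕ
  | [] => 0
  | c :: l => (c + 9).toNat + 32 * codeO l

/-- Strictly increasing. -/
def incr : List ℕ → Bool
  | [] => true
  | [_] => true
  | a :: b :: l => decide (a < b) && incr (b :: l)

theorem incr_pairwise : ∀ l, incr l = true → l.Pairwise (· < ·)
  | [], _ => List.Pairwise.nil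
  | [_], _ => List.pairwise_singleton _ _
  | a :: b :: l, h => by
    simp only [incr, Bool.and_eq_true, decide_eq_true_eq] at h
    have ih := incr_pairwise (b :: l) h.2
    refine List.Pairwise.cons (fun c hc => ?_) ih
    rcases List.mem_cons.mp hc with rfl | hc
    · exact h.1
    · exact h.1.trans ((List.pairwise_cons.mp ih).1 c hc)

theorem words_ok : incr (reachWords.map (codeO ∘ reachL)) = true ∧
    (reachWords.all fun w => w.all fun k => decide (k < 5)) = true ∧ reachWords.length = 2160 := by
  decide +kernel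

/-! ### The upper bound -/

/-- Lists of given length from given values with given sum of squares. -/
def sols (vals : List ℤ) : ℕ → ℤ → List (List ℤ)
  | 0, b => if b = 0 then [[]] else []
  | n + 1, b => vals.flatMap fun a => if a * a ≤ b then (sols vals n (b - a * a)).map (a :: ·) else []

theorem mem_sols (vals : List ℤ) : ∀ (l : List ℤ) (b : ℤ), (∀ a ∈ l, a ∈ vals) →
    (l.map fun a => a * a).sum = b → l ∈ sols vals l.length b
  | [], b, _, h => by simp only [List.map_nil, List.sum_nil] at h; subst h; simp [sols]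
  | a :: l, b, hv, h => by
    simp only [List.map_cons, List.sum_cons] at h
    have hnn : 0 ≤ (l.map fun a => a * a).sum := List.sum_nonneg fun x hx => by
      obtain ⟨y, -, rfl⟩ := List.mem_map.1 hx; exact mul_self_nonneg y
    simp only [List.length_cons, sols, List.mem_flatMap]
    refine ⟨a, hv a List.mem_cons_self, ?_⟩
    rw [if_pos (by omega), List.mem_map]
    exact ⟨l, mem_sols vals l _ (fun x hx => hv x (List.mem_cons_of_mem _ hx)) (by omega), rfl⟩

/-- The candidates for the second shell. -/
def shellList : List (List ℤ) :=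
  (sols [-2, -1, 0, 1, 2] 8 4).map (List.map (4 * ·)) ++
    ((sols [-3, -1, 1, 3] 8 16).filter fun l => decide (l.sum % 4 = 0)).map (List.map (2 * ·))

theorem shellList_length : shellList.length = 2160 := by decide +kernel

/-- The second shell. -/
def shell : Set leechLattice := {v | v ∈ minusPart ∧ sqNorm (v : GolayPt → ℤ) = 64}

theorem toO_shell {v : leechLattice} (hv : v ∈ shell) : toO (v : GolayPt → ℤ) ∈ shellList := by
  obtain ⟨hv, hn⟩ := hv
  have hone : ∀ (f : GolayPt → ℤ) (i : ℕ), (∀ p, 0 ≤ f p) → f (pt i) ≤ ∑ p, f p := fun f i h =>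
    Finset.single_le_sum (fun p _ => h p) (Finset.mem_univ _)
  rcases shape hv with ⟨z, hz, hzO, -⟩ | ⟨y, hy, hyO, hodd, hs⟩
  · have h4 : ∑ p, z p * z p = 4 := by
      have : sqNorm (v : GolayPt → ℤ) = 16 * ∑ p, z p * z p := by
        rw [sqNorm, Finset.mul_sum]; exact Finset.sum_congr rfl fun p _ => by rw [hz]; ring
      omega
    refine List.mem_append_left _ (List.mem_map.2 ⟨oPos.map fun i => z (pt i), ?_, ?_⟩)
    · refine mem_sols _ _ _ (fun a ha => ?_) ?_
      · obtain ⟨i, -, rfl⟩ := List.mem_map.1 ha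
        have := hone (fun p => z p * z p) i (fun p => mul_self_nonneg _)
        rw [h4] at this
        have hlo : -2 ≤ z (pt i) := by nlinarith
        have hhi : z (pt i) ≤ 2 := by nlinarith
        interval_cases (z (pt i)) <;> decide
      · rw [List.map_map, ← h4, sum_oct (fun p hp => by rw [hzO p hp]; rfl)]
        rfl
    · rw [toO, List.map_map]
      exact List.map_congr_left fun i _ => (hz _).symm
  · have h16 : ∑ p, y p * y p = 16 := by
      have : sqNorm (v : GolayPt → ℤ) = 4 * ∑ p, y p * y p := by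
        rw [sqNorm, Finset.mul_sum]; exact Finset.sum_congr rfl fun p _ => by rw [hy]; ring
      omega
    refine List.mem_append_right _ (List.mem_map.2 ⟨oPos.map fun i => y (pt i), ?_, ?_⟩)
    · rw [List.mem_filter, decide_eq_true_eq]
      refine ⟨mem_sols _ _ _ (fun a ha => ?_) ?_, ?_⟩
      · obtain ⟨i, hi, rfl⟩ := List.mem_map.1 ha
        have := hone (fun p => y p * y p) i (fun p => mul_self_nonneg _)
        rw [h16] at this
        have ho := hodd (pt i) (by rw [oct_eq, List.mem_toFinset]; exact List.mem_map_of_mem hi)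
        have hlo : -4 ≤ y (pt i) := by nlinarith
        have hhi : y (pt i) ≤ 4 := by nlinarith
        interval_cases (y (pt i)) <;> first | decide | omega
      · rw [List.map_map, ← h16, sum_oct (fun p hp => by rw [hyO p hp]; rfl)]
        rfl
      · rw [← sum_oct hyO]; omega
    · rw [toO, List.map_map]
      exact List.map_congr_left fun i _ => (hy _).symm

/-- The action of the centraliser is transitive on the second shell. -/
theorem ncard_orbit : (orbit c0 (Leech.eightAt none)).ncard = 2160 := by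
  obtain ⟨hincr, hall, hlen⟩ := words_ok
  simp only [List.all_eq_true, decide_eq_true_eq] at hall
  have hnd : (reachWords.map reachL).Nodup := by
    refine List.Nodup.of_map codeO ?_
    rw [List.map_map]
    exact (incr_pairwise _ hincr).imp ne_of_lt
  have hsub : orbit c0 (Leech.eightAt none) ⊆ shell := by
    rintro _ ⟨g, rfl⟩
    exact ⟨smul_mem_minusPart g.2 eightAt_mem, (Leech.sqNorm_smul _ _).trans (Leech.sqNorm_eightAt none)⟩
  have hinj : Set.InjOn (fun v : leechLattice => toO (v : GolayPt → ℤ)) (orbit c0 (Leech.eightAt none)) :=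
    fun v hv w hw h => toO_injOn (hsub hv).1 (hsub hw).1 h
  rw [← Set.ncard_image_of_injOn hinj]
  refine le_antisymm ?_ ?_
  · refine le_trans (Set.ncard_le_ncard (t := ↑shellList.toFinset) ?_ (Finset.finite_toSet _)) ?_
    · rintro _ ⟨v, hv, rfl⟩
      rw [List.coe_toFinset]
      exact toO_shell (hsub hv)
    · rw [Set.ncard_coe_finset, ← shellList_length]
      exact List.toFinset_card_le _
  · rw [← hlen, ← List.length_map (f := reachL), ← List.toFinset_card_of_nodup hnd, ← Set.ncard_coe_finset]
    refine Set.ncard_le_ncard ?_ ((Finset.finite_toSet shellList.toFinset).subset ?_)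
    · intro l hl
      rw [List.coe_toFinset, Set.mem_ofPred_eq, List.mem_map] at hl
      obtain ⟨w, hw, rfl⟩ := hl
      obtain ⟨g, hg, he⟩ := exists_word w (hall w hw)
      exact ⟨_, ⟨⟨g, hg⟩, rfl⟩, he⟩
    · rintro _ ⟨v, hv, rfl⟩
      rw [List.coe_toFinset]
      exact toO_shell (hsub hv)

/-! ### The stabiliser of a coordinate vector -/

theorem fix_eightAt_iff (x : golayCode × M24) (q : GolayPt) :
    Leech.monoAut x • Leech.eightAt q = Leech.eightAt q ↔
      (x.2 : Equiv.Perm GolayPt) q = q ∧ (x.1 : GolayPt → ZMod 2) q = 0 := by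
  rw [← Subtype.coe_inj, Leech.monoAut_eightAt]
  constructor
  · intro h
    have hq := congrFun h q
    simp only [Leech.flipSign, Leech.eightAt_apply, if_true] at hq
    by_cases e : q = (x.2 : Equiv.Perm GolayPt) q
    · rw [if_pos e] at hq
      refine ⟨e.symm, (Leech.eq_zero_or_one _).resolve_right fun h1 => ?_⟩
      rw [if_pos h1] at hq
      omega
    · rw [if_neg e] at hq
      split_ifs at hq <;> omega
  · rintro ⟨h1, h2⟩
    funext p
    simp only [Leech.flipSign, h1, Leech.eightAt_apply]
    by_cases e : p = q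
    · simp [e, h2]
    · simp [e]

theorem monoAut_mem_c0_iff (x : golayCode × M24) :
    Leech.monoAut x ∈ c0 ↔ ∀ p, (x.2 : Equiv.Perm GolayPt) p ∈ oct ↔ p ∈ oct := by
  constructor
  · intro h p
    have hp : Leech.permHom x.2 ∈ c0 := by
      have := mul_mem (inv_mem (signAut_mem_c0 x.1)) h
      rwa [Leech.monoAut, inv_mul_cancel_left] at this
    rw [mem_c0, octFlip, Leech.permHom_mul_signAut, mul_left_inj] at hp
    have e : Leech.monoAut (⟨fun i => (octWord : GolayPt → ZMod 2) ((x.2 : Equiv.Perm GolayPt)⁻¹ i),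
        Leech.M24_code (inv_mem x.2.2) octWord.2⟩, 1) = Leech.monoAut (octWord, 1) := by
      rw [← Leech.signAut_eq_monoAut, ← Leech.signAut_eq_monoAut]; exact hp
    have h1 := congrFun (congrArg Subtype.val (Prod.ext_iff.1 (Leech.monoAut_injective e)).1)
      ((x.2 : Equiv.Perm GolayPt) p)
    simp only [show (x.2 : Equiv.Perm GolayPt)⁻¹ ((x.2 : Equiv.Perm GolayPt) p) = p from
      Equiv.symm_apply_apply _ p, octWord_apply] at h1
    by_cases h2 : p ∈ oct <;> by_cases h3 : (x.2 : Equiv.Perm GolayPt) p ∈ oct <;>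
      simp [h2, h3] at h1 ⊢
  · intro h
    exact mul_mem (signAut_mem_c0 _) (permHom_mem_c0 h)

theorem stab_iff_oct (σ : M24) : σ ∈ stabilizer M24 oct ↔ ∀ p, (σ : Equiv.Perm GolayPt) p ∈ oct ↔ p ∈ oct := by
  constructor
  · intro h p
    have := Cert.smul_mem_iff' σ (s := oct) (p := p)
    rw [mem_stabilizer_iff.1 h] at this
    exact this
  · intro h
    rw [mem_stabilizer_iff]
    ext p
    have h2 := Cert.smul_mem_iff' σ (s := oct) (p := (σ : Equiv.Perm GolayPt)⁻¹ p)
    have h3 := h ((σ : Equiv.Perm GolayPt)⁻¹ p)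
    rw [show σ • (σ : Equiv.Perm GolayPt)⁻¹ p = p from Equiv.apply_symm_apply _ p] at h2
    rw [show (σ : Equiv.Perm GolayPt) ((σ : Equiv.Perm GolayPt)⁻¹ p) = p from Equiv.apply_symm_apply _ p] at h3
    rw [h2, h3]

theorem card_stab_point : Nat.card ↥(stabilizer (stabilizer M24 oct) (none : GolayPt)) = 40320 := by
  have horb : orbit (stabilizer M24 oct) (none : GolayPt) = (oct : Set GolayPt) := by
    ext p
    constructor
    · rintro ⟨g, rfl⟩
      exact ((stab_iff_oct _).1 g.2 none).2 none_mem_oct
    · intro hp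
      obtain ⟨g, hg, hgo⟩ := Cert.exists_map_octad_one oct_mem oct_mem (iff_of_true none_mem_oct hp)
      exact ⟨⟨g, hgo⟩, hg⟩
  have h := (stabilizer (stabilizer M24 oct) (none : GolayPt)).card_mul_index
  rw [index_stabilizer, horb, Set.ncard_coe_finset, Cert.card_stab_octad oct_mem, octad_card oct_mem] at h
  omega

theorem none_zero_count : ((List.range 4096).filter fun c => !(word c).testBit 23).length = 2048 := by decide +kernel

/-- Code coordinates of the words vanishing at the extra point. -/
def noneZero : Finset ℕ := ((List.range 4096).filter fun c => !(word c).testBit 23).toFinset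

theorem mem_noneZero {c : ℕ} : c ∈ noneZero ↔ c < 4096 ∧ (word c).testBit 23 = false := by
  rw [noneZero, List.mem_toFinset, List.mem_filter, List.mem_range, Bool.not_eq_true']

theorem card_noneZero : noneZero.card = 2048 := by
  rw [noneZero, List.toFinset_card_of_nodup ((List.nodup_range).filter _), none_zero_count]

attribute [local irreducible] noneZero

theorem vec_none_zero (c : ℕ) : vec (word c) none = 0 ↔ (word c).testBit 23 = false := by
  show (if (word c).testBit 23 then (1 : ZMod 2) else 0) = 0 ↔ _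
  cases (word c).testBit 23 <;> simp

theorem card_none_zero : Nat.card {w : golayCode // (w : GolayPt → ZMod 2) none = 0} = 2048 := by
  rw [← card_noneZero, ← Fintype.card_coe, ← Nat.card_eq_fintype_card]
  refine (Nat.card_congr (Equiv.ofBijective
    (fun c : noneZero => (⟨⟨vec (word c.1), vec_word_mem _⟩, (vec_none_zero c.1).2 (mem_noneZero.1 c.2).2⟩ :
      {w : golayCode // (w : GolayPt → ZMod 2) none = 0})) ⟨?_, ?_⟩)).symm
  · intro a b h
    have h1 : vec (word a.1) = vec (word b.1) :=
      congrArg (fun w : {w : golayCode // (w : GolayPt → ZMod 2) none = 0} => (w.1 : GolayPt → ZMod 2)) h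
    have ha := (mem_noneZero.1 a.2).1
    have hb := (mem_noneZero.1 b.2).1
    have h2 := vec_inj (word_lt _ ha) (word_lt _ hb) h1
    exact Subtype.ext (by rw [← word_mod _ ha, h2, word_mod _ hb])
  · intro x
    have hx := (mem_code_iff (x.1 : GolayPt → ZMod 2)).1 x.1.2
    refine Exists.elim hx fun c hce => ?_
    have hc := hce.1
    have he := hce.2
    have h0 : vec (word c) none = 0 := by rw [← he]; exact x.2
    exact ⟨⟨c, mem_noneZero.2 ⟨hc, (vec_none_zero c).1 h0⟩⟩, Subtype.ext (Subtype.ext he.symm)⟩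

theorem card_c0 : Nat.card c0 = 178362777600 := by
  have hs : Nat.card (stabilizer c0 (Leech.eightAt none)) = 2048 * 40320 := by
    rw [← card_none_zero, ← card_stab_point, ← Nat.card_prod]
    refine (Nat.card_congr (Equiv.ofBijective
      (fun x : {w : golayCode // (w : GolayPt → ZMod 2) none = 0} × ↥(stabilizer (stabilizer M24 oct) (none : GolayPt)) =>
        (⟨⟨Leech.monoAut (x.1.1, x.2.1.1), (monoAut_mem_c0_iff _).2 ((stab_iff_oct _).1 x.2.1.2)⟩,
          (fix_eightAt_iff _ none).2 ⟨x.2.2, x.1.2⟩⟩ : stabilizer c0 (Leech.eightAt none))) ⟨?_, ?_⟩)).symm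
    · intro a b h
      have h2 := Leech.monoAut_injective (congrArg (fun g : stabilizer c0 (Leech.eightAt none) => ((g : c0) : Co0)) h)
      exact Prod.ext (Subtype.ext (Prod.ext_iff.1 h2).1) (Subtype.ext (Subtype.ext (Prod.ext_iff.1 h2).2))
    · rintro ⟨⟨g, hg⟩, hfix⟩
      have hfix' : g • Leech.eightAt none = Leech.eightAt none := hfix
      obtain ⟨x, rfl⟩ := Leech.exists_monoAut (g := g) (by rw [hfix'])
      obtain ⟨h1, h2⟩ := (fix_eightAt_iff x none).1 hfix'
      exact ⟨(⟨x.1, h2⟩, ⟨⟨x.2, (stab_iff_oct _).2 ((monoAut_mem_c0_iff x).1 hg)⟩, h1⟩), rfl⟩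
  have h := (stabilizer c0 (Leech.eightAt none)).card_mul_index
  rw [hs, index_stabilizer, ncard_orbit] at h
  omega

end CfsgLib.Co1Cent
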